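import Cfsg.Agent.Lib.Blocks.ThreeChars.LinearBasic
import Cfsg.Agent.Lib.Zsigmondy.Feit
import Mathlib.NumberTheory.LegendreSymbol.Basic
import Mathlib.Algebra.BigOperators.Fin
import Mathlib.Tactic.NormNum.Prime

/-!
# Transitive `p'`-linear groups with one class of elements with cyclic centralizer

`card_eq_three`: such a group, with the arithmetic condition coming from two characters over an
invariant character, acts on a space of three elements.
-/

set_option autoImplicit false
set_option linter.style.haveILetI false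
set_option linter.unusedSectionVars false

namespace Cfsg.Agent.Blocks.ThreeChars

open Module (finrank)

variable {E : Type*} [Group E] [Finite E] {p : ℕ} [Fact p.Prime] {V : Type*} [AddCommGroup V]
  [Module (ZMod p) V] [Finite V]

/-- The hypotheses on the inertial group of the third character. -/
structure Hyp (ρ : E →* Module.End (ZMod p) V) : Prop where
  inj : Function.Injective ρ
  odd : p ≠ 2
  coprime : ¬ p ∣ Nat.card E
  trans : ∀ v w : V, v ≠ 0 → w ≠ 0 → ∃ g, ρ g v = w
  oneClass : ∀ g g' : E, g ≠ 1 → g' ≠ 1 → IsCyclic (Subgroup.centralizer ({g} : Set E)) →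
    IsCyclic (Subgroup.centralizer ({g'} : Set E)) → IsConj g g'
  sq : ∀ (c : E) (u : ℕ), u.Prime → c ≠ 1 → Nat.card (Subgroup.centralizer ({c} : Set E)) = u →
    ∃ x y t : ℕ, 0 < x ∧ 0 < y ∧ x ^ 2 + y ^ 2 = u ∧ Nat.card E = u * t ^ 2

theorem isConj_orderOf_eq {M : Type*} [Group M] {a b : M} (h : IsConj a b) :
    orderOf a = orderOf b := by
  obtain ⟨g, rfl⟩ := isConj_iff.1 h
  exact (orderOf_injective (MulAut.conj g).toMonoidHom (MulAut.conj g).injective a).symm

variable {ρ : E →* Module.End (ZMod p) V} (h : Hyp ρ)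
include h

theorem Hyp.card_sub_one_dvd [Nontrivial V] : p ^ finrank (ZMod p) V - 1 ∣ Nat.card E := by
  classical
  obtain ⟨v₀, hv₀⟩ := exists_ne (0 : V)
  letI : MulAction E V :=
    { smul := fun g v => ρ g v
      one_smul := fun v => by show ρ 1 v = v; rw [map_one, Module.End.one_apply]
      mul_smul := fun a b v => by
        show ρ (a * b) v = ρ a (ρ b v); rw [map_mul, Module.End.mul_apply] }
  haveI := Fintype.ofFinite E
  haveI := Fintype.ofFinite V
  have horb : MulAction.orbit E v₀ = {v : V | v ≠ 0} := by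
    ext v
    constructor
    · rintro ⟨g, rfl⟩ h0
      refine hv₀ ?_
      have h1 := apply_inv_apply ρ g v₀
      rw [show ρ g v₀ = 0 from h0, map_zero] at h1
      exact h1.symm
    · intro hv
      obtain ⟨g, hg⟩ := h.trans v₀ v hv₀ hv
      exact ⟨g, hg⟩
  have hc := MulAction.card_orbit_mul_card_stabilizer_eq_card_group E v₀
  have hcard : Fintype.card (MulAction.orbit E v₀) = p ^ finrank (ZMod p) V - 1 := by
    rw [Fintype.card_congr (Equiv.setCongr horb)]
    rw [show Fintype.card {v : V | v ≠ 0} = Fintype.card {v : V // ¬ v = 0} from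
      Fintype.card_congr (Equiv.refl _), Fintype.card_subtype_compl, Fintype.card_subtype_eq,
      ← Nat.card_eq_fintype_card, Module.natCard_eq_pow_finrank (K := ZMod p), Nat.card_zmod]
  rw [hcard, ← Nat.card_eq_fintype_card (α := E)] at hc
  exact Dvd.intro _ hc

theorem Hyp.centralizer_eq_zpowers [Nontrivial V] {c : E} (hc : c ≠ 1) (hirr : Irred ρ c) :
    Subgroup.centralizer ({c} : Set E) = Subgroup.zpowers c := by
  have hcyc := isCyclic_centralizer_of_irred ρ h.inj hirr
  obtain ⟨k, hk⟩ := hcyc.exists_generator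
  have hcC : c ∈ Subgroup.centralizer ({c} : Set E) := Subgroup.mem_centralizer_singleton_iff.2 rfl
  have hk' : Subgroup.zpowers (k : E) = Subgroup.centralizer ({c} : Set E) := by
    refine le_antisymm (Subgroup.zpowers_le.2 k.2) fun x hx => ?_
    obtain ⟨n, hn⟩ := hk ⟨x, hx⟩
    exact ⟨n, congrArg Subtype.val hn⟩
  have hCk : Subgroup.centralizer ({(k : E)} : Set E) = Subgroup.centralizer ({c} : Set E) := by
    refine le_antisymm (fun x hx => ?_) fun x hx => ?_
    · obtain ⟨n, hn⟩ := hk'.symm ▸ hcC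
      rw [Subgroup.mem_centralizer_singleton_iff] at hx ⊢
      rw [← hn]
      exact (Commute.zpow_right (show Commute x (k : E) from hx) n).eq
    · rw [Subgroup.mem_centralizer_singleton_iff]
      exact congrArg Subtype.val (hcyc.commGroup.mul_comm ⟨x, hx⟩ k)
  have hk1 : (k : E) ≠ 1 := fun e => hc (by
    rw [e, Subgroup.zpowers_one_eq_bot] at hk'
    rw [← hk', Subgroup.mem_bot] at hcC
    exact hcC)
  have hord := isConj_orderOf_eq (h.oneClass c k hc hk1 hcyc (hCk.symm ▸ hcyc))
  refine (Subgroup.eq_of_le_of_card_ge (Subgroup.zpowers_le.2 hcC) ?_).symm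
  rw [← hk', Nat.card_zpowers, Nat.card_zpowers, hord]

theorem Hyp.card_centralizer [Nontrivial V] {c : E} (hc : c ≠ 1) (hirr : Irred ρ c) :
    Nat.card (Subgroup.centralizer ({c} : Set E)) = orderOf c := by
  rw [h.centralizer_eq_zpowers hc hirr, Nat.card_zpowers]

theorem Hyp.isConj_pow [Nontrivial V] {c : E} {w : ℕ} [Fact w.Prime] (hc : orderOf c = w)
    (hirr : Irred ρ c) {j : ℕ} (hj : 1 ≤ j) (hjw : j < w) : IsConj c (c ^ j) := by
  have hw : w.Prime := Fact.out
  have hc1 : c ≠ 1 := fun e => hw.ne_one (by rw [← hc, e, orderOf_one])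
  have hcop : Nat.Coprime j (orderOf c) := by
    rw [hc]; exact (Nat.coprime_of_lt_prime (by omega) hjw hw).symm
  obtain ⟨m, hm⟩ := exists_pow_eq_self_of_coprime hcop
  have hcent : Subgroup.centralizer ({c ^ j} : Set E) = Subgroup.centralizer ({c} : Set E) := by
    ext x
    simp only [Subgroup.mem_centralizer_singleton_iff]
    constructor
    · intro hx
      have := (Commute.pow_right (show Commute x (c ^ j) from hx) m).eq
      rwa [hm] at this
    · exact fun hx => (Commute.pow_right (show Commute x c from hx) j).eq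
  refine h.oneClass c (c ^ j) hc1 (fun e => hc1 ?_) (isCyclic_centralizer_of_irred ρ h.inj hirr)
    (hcent.symm ▸ isCyclic_centralizer_of_irred ρ h.inj hirr)
  rw [← hm, e, one_pow]

/-- A primitive prime divisor equals `dim V + 1` and divides the group order exactly once. -/
theorem Hyp.primitive [Nontrivial V] {r : ℕ} (hr : finrank (ZMod p) V = r) (hr2 : 2 ≤ r) {w : ℕ}
    (hw : w.Prime) (hdvd : w ∣ p ^ r - 1) (hprim : ∀ i, 1 ≤ i → i < r → ¬ w ∣ p ^ i - 1) :
    w = r + 1 ∧ ¬ w ^ 2 ∣ p ^ r - 1 ∧ ∃ c : E, orderOf c = w ∧ Irred ρ c ∧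
      Nat.card (Subgroup.centralizer ({c} : Set E)) = w := by
  haveI : Fact w.Prime := ⟨hw⟩
  have hp : p.Prime := Fact.out
  subst hr
  set r := finrank (ZMod p) V with hrdef
  have h1p : 1 ≤ p ^ r := Nat.one_le_pow _ _ hp.pos
  have hwp : w ≠ p := by
    rintro rfl
    have h1 : w ∣ w ^ r := dvd_pow_self w (by omega)
    have h2 := Nat.dvd_sub h1 hdvd
    rw [Nat.sub_sub_self h1p] at h2
    exact hp.not_dvd_one h2
  have hEdvd : w ∣ Nat.card E := hdvd.trans h.card_sub_one_dvd
  obtain ⟨c, hc⟩ := exists_prime_orderOf_dvd_card' w hEdvd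
  have hirr := fun (x : E) (hx : orderOf x = w) => irred_of_primitive ρ h.inj hx hwp hprim
  have hC := fun (x : E) (hx : orderOf x = w) =>
    h.card_centralizer (fun e => hw.ne_one (by rw [← hx, e, orderOf_one])) (hirr x hx)
  have hle := sub_one_le_finrank ρ h.inj hc (hirr c hc)
    (fun j hj1 hj2 => h.isConj_pow hc (hirr c hc) hj1 hj2)
  have hp0 : (p : ZMod w) ≠ 0 := fun e => hwp
    ((Nat.prime_dvd_prime_iff_eq hw hp).1 ((ZMod.natCast_eq_zero_iff _ _).1 e))
  have hone : ∀ i, (p : ZMod w) ^ i = 1 ↔ w ∣ p ^ i - 1 := fun i => by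
    rw [← ZMod.natCast_eq_zero_iff, Nat.cast_sub (Nat.one_le_pow _ _ hp.pos), sub_eq_zero,
      Nat.cast_pow, Nat.cast_one]
  have hord : orderOf (p : ZMod w) = r := by
    refine (orderOf_eq_iff (by omega)).2 ⟨(hone r).2 hdvd, fun i hi h0 h1 => ?_⟩
    exact hprim i h0 hi ((hone i).1 h1)
  have hrw : r ∣ w - 1 := hord ▸ orderOf_dvd_of_pow_eq_one (ZMod.pow_card_sub_one_eq_one hp0)
  have := hw.two_le
  have hw1 : w = r + 1 := by
    have := Nat.le_of_dvd (by omega) hrw
    omega
  refine ⟨hw1, fun hsq => ?_, c, hc, hirr c hc, by rw [hC c hc, hc]⟩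
  obtain ⟨W, -⟩ := (⟨default, trivial⟩ : ∃ _ : Sylow w E, True)
  have hW : w ^ 2 ∣ Nat.card W := by
    rw [Sylow.card_eq_multiplicity]
    exact pow_dvd_pow _ ((hw.pow_dvd_iff_le_factorization Nat.card_pos.ne').1
      (hsq.trans h.card_sub_one_dvd))
  haveI : Nontrivial W := Finite.one_lt_card_iff_nontrivial.1 (lt_of_lt_of_le
    (Nat.one_lt_pow two_ne_zero hw.one_lt) (Nat.le_of_dvd Nat.card_pos hW))
  haveI := IsPGroup.center_nontrivial W.isPGroup'
  have hzd : w ∣ Nat.card (Subgroup.center W) := by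
    obtain ⟨n, hn0, hn⟩ :=
      ((W.isPGroup'.to_subgroup (Subgroup.center W)).nontrivial_iff_card).1 inferInstance
    exact hn ▸ dvd_pow_self w hn0.ne'
  obtain ⟨z, hz⟩ := exists_prime_orderOf_dvd_card' w hzd
  have hz' : orderOf ((z : W) : E) = w := by
    rw [Subgroup.orderOf_coe, Subgroup.orderOf_coe, hz]
  have hsub : (W : Subgroup E) ≤ Subgroup.centralizer ({((z : W) : E)} : Set E) := fun x hx =>
    Subgroup.mem_centralizer_singleton_iff.2
      (congrArg Subtype.val (Subgroup.mem_center_iff.1 z.2 ⟨x, hx⟩))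
  have h3 := Subgroup.card_dvd_of_le hsub
  rw [hC _ hz', hz'] at h3
  have h4 := Nat.le_of_dvd hw.pos (hW.trans h3)
  nlinarith [hw.two_le]

/-- A line. -/
theorem Hyp.finrank_one [Nontrivial V] (hr : finrank (ZMod p) V = 1) : Nat.card V = 3 := by
  obtain ⟨v₀, hv₀⟩ := exists_ne (0 : V)
  have hsc : ∀ f : Module.End (ZMod p) V, ∃ a : ZMod p, f = a • 1 := fun f => by
    obtain ⟨a, ha⟩ := exists_smul_eq_of_finrank_eq_one hr hv₀ (f v₀)
    refine ⟨a, LinearMap.ext fun x => ?_⟩
    obtain ⟨b, rfl⟩ := exists_smul_eq_of_finrank_eq_one hr hv₀ x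
    rw [map_smul, LinearMap.smul_apply, Module.End.one_apply, ← ha, smul_comm]
  have hcomm : ∀ a b : E, a * b = b * a := fun a b => h.inj (by
    obtain ⟨x, hx⟩ := hsc (ρ a)
    obtain ⟨y, hy⟩ := hsc (ρ b)
    rw [map_mul, map_mul, hx, hy, smul_mul_smul_comm, smul_mul_smul_comm, mul_comm x y])
  have hirr : ∀ g : E, Irred ρ g := fun g W _ => by
    rcases Nat.le_one_iff_eq_zero_or_eq_one.1 ((Submodule.finrank_le W).trans hr.le) with e | e
    · exact Or.inl (Submodule.finrank_eq_zero.1 e)
    · exact Or.inr (Submodule.eq_top_of_finrank_eq (e.trans hr.symm))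
  have hall : ∀ g g' : E, g ≠ 1 → g' ≠ 1 → g = g' := fun g g' hg hg' => by
    obtain ⟨a, ha⟩ := isConj_iff.1 (h.oneClass g g' hg hg'
      (isCyclic_centralizer_of_irred ρ h.inj (hirr g))
      (isCyclic_centralizer_of_irred ρ h.inj (hirr g')))
    rwa [hcomm a g, mul_inv_cancel_right] at ha
  have hE : Nat.card E ≤ 2 := by
    classical
    refine (Nat.card_le_card_of_injective (fun g : E => decide (g = 1)) fun g g' e => ?_).trans
      (by simp [Nat.card_eq_fintype_card])
    by_cases hg : g = 1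
    · by_cases hg' : g' = 1
      · rw [hg, hg']
      · simp [hg, hg'] at e
    · by_cases hg' : g' = 1
      · simp [hg, hg'] at e
      · exact hall g g' hg hg'
  have hd := h.card_sub_one_dvd
  rw [hr, pow_one] at hd
  have h2 := Nat.le_of_dvd Nat.card_pos hd
  have hp : p.Prime := Fact.out
  have := h.odd
  have := hp.two_le
  rw [Module.natCard_eq_pow_finrank (K := ZMod p), Nat.card_zmod, hr, pow_one]
  omega

/-- A plane with no primitive divisor. -/
theorem Hyp.mersenne [Nontrivial V] (hr : finrank (ZMod p) V = 2) {s : ℕ} (hs : p + 1 = 2 ^ s) :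
    False := by
  classical
  have hp : p.Prime := Fact.out
  have hp3 : 3 ≤ p := by have := h.odd; have := hp.two_le; omega
  have hs2 : 2 ≤ s := by
    by_contra hlt
    interval_cases s <;> omega
  have hmod : p % 4 = 3 := by
    obtain ⟨k, rfl⟩ : ∃ k, s = k + 2 := ⟨s - 2, by omega⟩
    rw [pow_add] at hs
    omega
  have hnosq : ∀ a : ZMod p, a * a ≠ -1 := fun a ha =>
    absurd hmod (ZMod.exists_sq_eq_neg_one_iff.1 ⟨a, ha.symm⟩)
  have hone := neg_one_ne_one (p := p) h.odd
  -- elements of order four are irreducible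
  have hirr4 : ∀ g : E, orderOf g = 4 → Irred ρ g := by
    intro g hg
    set T := ρ (g ^ 2) with hT
    have hT2 : ∀ x, T (T x) = x := fun x => by
      rw [hT, ← Module.End.mul_apply, ← map_mul, ← pow_add, show 2 + 2 = orderOf g by rw [hg],
        pow_orderOf_eq_one, map_one, Module.End.one_apply]
    have hgT : ∀ x, ρ g (ρ g x) = T x := fun x => by
      rw [hT, pow_two, map_mul, Module.End.mul_apply]
    have hTne : T ≠ 1 := fun e => by
      have := pow_ne_one_of_lt_orderOf (x := g) two_ne_zero (by omega)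
      exact this (h.inj (e.trans (map_one ρ).symm))
    have hTneg : ∀ x, T x = -x := by
      obtain ⟨u, hu⟩ : ∃ u, T u ≠ u := by
        by_contra! hh
        exact hTne (LinearMap.ext hh)
      intro x
      by_contra hx
      set K := LinearMap.ker (T - 1)
      set K' := LinearMap.ker (T + 1)
      have hd : Disjoint K K' := by
        rw [Submodule.disjoint_def]
        intro y hy hy'
        rw [LinearMap.mem_ker, LinearMap.sub_apply, sub_eq_zero, Module.End.one_apply] at hy
        rw [LinearMap.mem_ker, LinearMap.add_apply, Module.End.one_apply, hy] at hy'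
        have : (1 - (-1 : ZMod p)) • y = 0 := by
          rw [sub_smul, one_smul, neg_one_smul, sub_neg_eq_add]; exact hy'
        exact (smul_eq_zero.1 this).resolve_left (sub_ne_zero.2 hone.symm)
      have hy1 : T x + x ∈ K := by
        rw [LinearMap.mem_ker, LinearMap.sub_apply, sub_eq_zero, Module.End.one_apply, map_add,
          hT2, add_comm]
      have hy2 : T u - u ∈ K' := by
        rw [LinearMap.mem_ker, LinearMap.add_apply, Module.End.one_apply, map_sub, hT2]
        abel
      have hK : 1 ≤ finrank (ZMod p) K := Nat.one_le_iff_ne_zero.2 fun e => by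
        rw [Submodule.finrank_eq_zero] at e
        rw [e, Submodule.mem_bot] at hy1
        exact hx (eq_neg_of_add_eq_zero_left hy1)
      have hsum := Submodule.finrank_add_finrank_le_of_disjoint hd
      have hu' : T u - u ≠ 0 := sub_ne_zero.2 hu
      have hK' : finrank (ZMod p) K' = 1 := le_antisymm (by omega) (Nat.one_le_iff_ne_zero.2 fun e => by
        rw [Submodule.finrank_eq_zero] at e
        rw [e, Submodule.mem_bot] at hy2
        exact hu' hy2)
      have hgy : ρ g (T u - u) ∈ K' := by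
        have e := hy2
        rw [LinearMap.mem_ker, LinearMap.add_apply, Module.End.one_apply] at e ⊢
        rw [← hgT (ρ g (T u - u)), hgT (T u - u), ← map_add, e, map_zero]
      obtain ⟨a, ha⟩ := exists_smul_eq_of_finrank_eq_one hK'
        (x := (⟨_, hy2⟩ : K')) (fun e => hu' (congrArg Subtype.val e)) ⟨_, hgy⟩
      have ha' : ρ g (T u - u) = a • (T u - u) := (congrArg Subtype.val ha).symm
      refine hnosq a (smul_left_injective (ZMod p) hu' ?_)
      show (a * a) • (T u - u) = (-1 : ZMod p) • (T u - u)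
      rw [neg_one_smul, mul_smul, ← ha', ← map_smul, ← ha', hgT]
      have e := hy2
      rw [LinearMap.mem_ker, LinearMap.add_apply, Module.End.one_apply] at e
      exact eq_neg_of_add_eq_zero_left e
    intro W hW
    by_contra hcon
    rw [not_or] at hcon
    obtain ⟨v, hvW, hv0⟩ := Submodule.exists_mem_ne_zero_of_ne_bot hcon.1
    have hW1 : finrank (ZMod p) W = 1 := by
      have h1 := Submodule.finrank_lt hcon.2
      have h2 : finrank (ZMod p) W ≠ 0 := fun e => hcon.1 (Submodule.finrank_eq_zero.1 e)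
      omega
    obtain ⟨a, ha⟩ := exists_smul_eq_of_finrank_eq_one hW1
      (x := (⟨v, hvW⟩ : W)) (fun e => hv0 (congrArg Subtype.val e)) ⟨_, hW v hvW⟩
    have ha' : ρ g v = a • v := (congrArg Subtype.val ha).symm
    refine hnosq a (smul_left_injective (ZMod p) hv0 ?_)
    show (a * a) • v = (-1 : ZMod p) • v
    rw [neg_one_smul, mul_smul, ← ha', ← map_smul, ← ha', hgT, hTneg]
  have hC4 : ∀ g : E, orderOf g = 4 →
      Subgroup.centralizer ({g} : Set E) = Subgroup.zpowers g := fun g hg =>
    h.centralizer_eq_zpowers (fun e => by rw [e, orderOf_one] at hg; omega) (hirr4 g hg)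
  obtain ⟨P, -⟩ := (⟨default, trivial⟩ : ∃ _ : Sylow 2 E, True)
  -- `2 ^ (s + 1) ∣ |P|`
  have hd := h.card_sub_one_dvd
  rw [hr] at hd
  have hsq : p ^ 2 - 1 = (p + 1) * (p - 1) := by
    have e := Nat.sq_sub_sq p 1
    rwa [one_pow] at e
  have h2P : 2 ^ (s + 1) ∣ Nat.card P := by
    rw [Sylow.card_eq_multiplicity]
    refine pow_dvd_pow _ ((Nat.prime_two.pow_dvd_iff_le_factorization Nat.card_pos.ne').1
      (dvd_trans ?_ hd))
    rw [hsq, hs, pow_succ]
    exact mul_dvd_mul_left _ (by omega)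
  have hP8 : 8 ≤ Nat.card P :=
    le_trans (Nat.pow_le_pow_right two_pos (by omega : 3 ≤ s + 1)) (Nat.le_of_dvd Nat.card_pos h2P)
  -- an element of order four
  have hno8 : ∀ x : E, 8 ∣ orderOf x → False := fun x hx => by
    have hk : orderOf (x ^ (orderOf x / 4)) = 4 :=
      orderOf_pow_orderOf_div (orderOf_pos x).ne' ((by norm_num : 4 ∣ 8).trans hx)
    have hmem : x ∈ Subgroup.centralizer ({x ^ (orderOf x / 4)} : Set E) :=
      Subgroup.mem_centralizer_singleton_iff.2 (Commute.self_pow x _).eq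
    rw [hC4 _ hk] at hmem
    have h1 := orderOf_dvd_of_mem_zpowers hmem
    rw [hk] at h1
    have := Nat.le_of_dvd (by norm_num) (hx.trans h1)
    omega
  have hexp : ∀ x ∈ P, orderOf x ∣ 4 := fun x hx => by
    obtain ⟨k, hk⟩ := IsPGroup.iff_orderOf.1 P.isPGroup' ⟨x, hx⟩
    rw [Subgroup.orderOf_mk] at hk
    rw [hk]
    rcases Nat.lt_or_ge k 3 with hlt | hge
    · exact (Nat.pow_dvd_pow 2 (by omega : k ≤ 2)).trans (by norm_num)
    · exact (hno8 x (hk ▸ Nat.pow_dvd_pow 2 hge)).elim
  obtain ⟨g, hgP, hg⟩ : ∃ g ∈ P, orderOf g = 4 := by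
    by_contra! hno
    have := card_le_four ρ h.inj h.odd hr P fun x hx => by
      obtain ⟨k, hk, hk'⟩ := (Nat.dvd_prime_pow Nat.prime_two (m := 2)).1 (by simpa using hexp x hx)
      refine orderOf_dvd_iff_pow_eq_one.1 ?_
      interval_cases k
      · rw [hk']; norm_num
      · rw [hk']; norm_num
      · exact absurd hk' (hno x hx)
    omega
  -- squares
  haveI : Nontrivial P := Finite.one_lt_card_iff_nontrivial.1 (by omega)
  haveI := IsPGroup.center_nontrivial P.isPGroup'
  have h2c : 2 ∣ Nat.card (Subgroup.center P) := by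
    obtain ⟨n, hn0, hn⟩ :=
      ((P.isPGroup'.to_subgroup (Subgroup.center P)).nontrivial_iff_card).1 inferInstance
    exact hn ▸ dvd_pow_self 2 hn0.ne'
  obtain ⟨z₀, hz₀⟩ := exists_prime_orderOf_dvd_card' 2 h2c
  set z : E := ((z₀ : P) : E) with hz
  have hz2 : orderOf z = 2 := by rw [hz, Subgroup.orderOf_coe, Subgroup.orderOf_coe, hz₀]
  have hzc : ∀ x ∈ P, x * z = z * x := fun x hx =>
    congrArg Subtype.val (Subgroup.mem_center_iff.1 z₀.2 ⟨x, hx⟩)
  have hzsq : ∀ x ∈ P, orderOf x = 4 → z = x ^ 2 := by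
    intro x hx hx4
    have hmem : z ∈ Subgroup.centralizer ({x} : Set E) :=
      Subgroup.mem_centralizer_singleton_iff.2 (hzc x hx).symm
    rw [hC4 x hx4] at hmem
    obtain ⟨n, hn⟩ := (mem_powers_iff_mem_zpowers).2 hmem
    replace hn : x ^ n = z := hn
    rw [← pow_mod_orderOf, hx4] at hn
    have := Nat.mod_lt n (show 4 > 0 by norm_num)
    interval_cases hh : n % 4
    · rw [pow_zero] at hn; rw [← hn, orderOf_one] at hz2; omega
    · rw [pow_one] at hn; rw [← hn, hx4] at hz2; omega
    · exact hn.symm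
    · rw [← hn, orderOf_pow, hx4] at hz2; norm_num at hz2
  have hzz : z * z = 1 := by rw [← pow_two, ← hz2, pow_orderOf_eq_one]
  have hsqP : ∀ x ∈ P, x * x = 1 ∨ x * x = z := by
    intro x hx
    obtain ⟨k, hk, hk'⟩ := (Nat.dvd_prime_pow Nat.prime_two (m := 2)).1 (by simpa using hexp x hx)
    interval_cases k
    · left; rw [← pow_two, ← orderOf_dvd_iff_pow_eq_one, hk']; norm_num
    · left; rw [← pow_two, ← orderOf_dvd_iff_pow_eq_one, hk']; norm_num
    · right; rw [← pow_two, hzsq x hx hk']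
  have hg2 : g * g = z := by rw [← pow_two, hzsq g hgP hg]
  -- the class of `g` in `P` has at most two elements
  have hclass : ∀ y ∈ P, y * g * y⁻¹ = g ∨ y * g * y⁻¹ = g⁻¹ := by
    intro y hy
    have e : y * g * y⁻¹ = (y * g * (y * g)) * g⁻¹ * (y * y)⁻¹ := by group
    have hginv : g⁻¹ = z * g := inv_eq_of_mul_eq_one_right (by
      rw [← mul_assoc, hzc g hgP, mul_assoc, hg2, hzz])
    have hzg : z * g⁻¹ = g := by rw [hginv, ← mul_assoc, hzz, one_mul]
    have hzinv : z⁻¹ = z := inv_eq_of_mul_eq_one_right hzz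
    have hgz : g⁻¹ * z = g := by rw [hzc g⁻¹ (inv_mem hgP), hzg]
    rcases hsqP (y * g) (P.mul_mem hy hgP) with a | a <;> rcases hsqP y hy with b | b <;>
      rw [e, a, b]
    · right; simp
    · left; rw [one_mul, hzinv, hgz]
    · left; rw [inv_one, mul_one, hzg]
    · right
      rw [hzg, hzinv, hginv, hzc g hgP]
  have hP8' : Nat.card P ≤ 8 := by
    let f : P → Bool × Subgroup.zpowers g := fun y =>
      if hy : (y : E) * g * (y : E)⁻¹ = g then
        (true, ⟨(y : E), by
          rw [← hC4 g hg, Subgroup.mem_centralizer_singleton_iff]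
          exact mul_inv_eq_iff_eq_mul.1 hy⟩)
      else (false, ⟨1, one_mem _⟩)
    by_cases hall : ∀ y ∈ P, y * g * y⁻¹ = g
    · have hle : (P : Subgroup E) ≤ Subgroup.zpowers g := fun y hy => by
        rw [← hC4 g hg, Subgroup.mem_centralizer_singleton_iff]
        exact mul_inv_eq_iff_eq_mul.1 (hall y hy)
      have := Subgroup.card_le_of_le hle
      rw [Nat.card_zpowers, hg] at this
      omega
    · push Not at hall
      obtain ⟨y₁, hy₁, hy₁'⟩ := hall
      let f' : P → Bool × Subgroup.zpowers g := fun y =>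
        if hy : (y : E) * g * (y : E)⁻¹ = g then
          (true, ⟨(y : E), by
            rw [← hC4 g hg, Subgroup.mem_centralizer_singleton_iff]
            exact mul_inv_eq_iff_eq_mul.1 hy⟩)
        else (false, ⟨y₁⁻¹ * (y : E), by
          rw [← hC4 g hg, Subgroup.mem_centralizer_singleton_iff]
          refine mul_inv_eq_iff_eq_mul.1 ?_
          have e2 := (hclass y y.2).resolve_left hy
          have e1 := (hclass y₁ hy₁).resolve_left hy₁'
          calc y₁⁻¹ * (y : E) * g * (y₁⁻¹ * (y : E))⁻¹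
              = y₁⁻¹ * ((y : E) * g * (y : E)⁻¹) * y₁ := by group
            _ = y₁⁻¹ * (y₁ * g * y₁⁻¹) * y₁ := by rw [e2, e1]
            _ = g := by group⟩)
      have hf' : Function.Injective f' := by
        intro a b e
        simp only [f'] at e
        split_ifs at e <;> simp only [Prod.mk.injEq, Subtype.mk.injEq, reduceCtorEq, false_and,
          true_and, mul_right_inj] at e <;> exact Subtype.ext e
      have := Nat.card_le_card_of_injective f' hf'
      rw [Nat.card_prod, Nat.card_zpowers, hg, Nat.card_eq_fintype_card (α := Bool), Fintype.card_bool] at this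
      omega
  have hs3 : s = 2 := by
    have := Nat.le_of_dvd Nat.card_pos h2P
    have h4 : 2 ^ (s + 1) ≤ 2 ^ 3 := by
      rw [show (2 : ℕ) ^ 3 = 8 by norm_num]; omega
    have := (Nat.pow_le_pow_iff_right (by norm_num : 1 < 2)).1 h4
    omega
  have hp3' : p = 3 := by rw [hs3] at hs; omega
  -- the group is `P`
  have hgl := card_dvd_gl ρ h.inj hr
  rw [Fin.prod_univ_two, hp3'] at hgl
  norm_num at hgl
  have hcop : Nat.Coprime (Nat.card E) 3 := by
    have := h.coprime
    rw [hp3'] at this
    exact ((Nat.prime_three.coprime_iff_not_dvd).2 this).symm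
  have h16 : Nat.card E ∣ 2 ^ 4 := hcop.dvd_of_dvd_mul_left (m := 3) (by norm_num; exact hgl)
  have hEP : ∀ x : E, x ∈ P := by
    obtain ⟨k, -, hk⟩ := (Nat.dvd_prime_pow Nat.prime_two).1 h16
    have hcard : Nat.card P = Nat.card E := by
      rw [Sylow.card_eq_multiplicity, hk, Nat.prime_two.factorization_pow, Finsupp.single_eq_same]
    intro x
    have e := Subgroup.eq_top_of_card_eq (P : Subgroup E) hcard
    show x ∈ (P : Subgroup E)
    rw [e]
    exact Subgroup.mem_top x
  -- at most two elements square to one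
  have hE8 : Nat.card E = 8 := by
    have := h.card_sub_one_dvd
    rw [hr, hp3'] at this
    norm_num at this
    have hle : Nat.card E ≤ Nat.card P :=
      Nat.card_le_card_of_injective (fun x => (⟨x, hEP x⟩ : P)) fun a b e => congrArg Subtype.val e
    have := Nat.le_of_dvd Nat.card_pos this
    omega
  have hfree : ∀ x : E, x ≠ 1 → ∀ v : V, ρ x v = v → v = 0 := by
    intro x hx v hxv
    by_contra hv
    letI : MulAction E {w : V // w ≠ 0} :=
      { smul := fun a w => ⟨ρ a w, fun e => w.2 (by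
          have := apply_inv_apply ρ a (w : V); rw [e, map_zero] at this; exact this.symm)⟩
        one_smul := fun w => Subtype.ext (by show ρ 1 (w : V) = w; rw [map_one, Module.End.one_apply])
        mul_smul := fun a b w => Subtype.ext (by
          show ρ (a * b) (w : V) = ρ a (ρ b w); rw [map_mul, Module.End.mul_apply]) }
    have hsurj : Function.Surjective fun a : E => a • (⟨v, hv⟩ : {w : V // w ≠ 0}) := fun w => by
      obtain ⟨a, ha⟩ := h.trans v w hv w.2
      exact ⟨a, Subtype.ext ha⟩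
    have hcardV : Nat.card {w : V // w ≠ 0} = 8 := by
      haveI := Fintype.ofFinite V
      rw [Nat.card_eq_fintype_card, Fintype.card_subtype_compl, Fintype.card_subtype_eq,
        ← Nat.card_eq_fintype_card, Module.natCard_eq_pow_finrank (K := ZMod p), Nat.card_zmod, hr,
        hp3']
      norm_num
    have hb := (Nat.bijective_iff_surjective_and_card _).2 ⟨hsurj, by rw [hE8, hcardV]⟩
    refine hx (hb.injective (Subtype.ext ?_))
    show ρ x v = ρ 1 v
    rw [hxv, map_one, Module.End.one_apply]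
  have hone' : ∀ x : E, x * x = 1 → x ≠ 1 → ρ x = -1 := fun x hx hx1 =>
    LinearMap.ext fun v => eq_neg_of_add_eq_zero_left (hfree x hx1 (ρ x v + v) (by
      rw [map_add, ← Module.End.mul_apply, ← map_mul, hx, map_one, Module.End.one_apply, add_comm]))
  have hgne : g ≠ 1 := fun e => by rw [e, orderOf_one] at hg; omega
  have hginj : ∀ x : E, x = 1 ∨ x = z ∨ x = g ∨ x = g⁻¹ := by
    intro x
    by_cases hx1 : x = 1
    · exact Or.inl hx1
    rcases hsqP x (hEP x) with e | e
    · refine Or.inr (Or.inl (h.inj ?_))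
      rw [hone' x e hx1, hone' z hzz fun e => by rw [e, orderOf_one] at hz2; omega]
    · have hx4 : orderOf x = 4 := by
        refine orderOf_eq_prime_pow (p := 2) (n := 1) ?_ ?_
        · rw [pow_one, pow_two, e]
          intro hzone
          rw [hzone, orderOf_one] at hz2
          omega
        · rw [show (2 : ℕ) ^ (1 + 1) = 2 * 2 by norm_num, pow_mul, pow_two, pow_two, e, hzz]
      obtain ⟨a, ha⟩ := isConj_iff.1 (h.oneClass g x hgne hx1
        (isCyclic_centralizer_of_irred ρ h.inj (hirr4 g hg))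
        (isCyclic_centralizer_of_irred ρ h.inj (hirr4 x hx4)))
      rcases hclass a (hEP a) with e' | e' <;> rw [ha] at e' <;> simp [e']
  haveI := Fintype.ofFinite E
  have hle : Nat.card E ≤ 4 := by
    rw [Nat.card_eq_fintype_card, ← Finset.card_univ]
    refine (Finset.card_le_card (t := {1, z, g, g⁻¹}) fun x _ => ?_).trans Finset.card_le_four
    simpa using hginj x
  omega

/-- The case `|V| = 81`. -/
theorem Hyp.eighty_one [Nontrivial V] (hr : finrank (ZMod p) V = 4) (hp3 : p = 3) : False := by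
  classical
  subst hp3
  obtain ⟨-, -, c, hc, hirr, hC⟩ := h.primitive hr (by norm_num) (w := 5) (by norm_num)
    (by norm_num) (fun i h1 h2 => by interval_cases i <;> norm_num)
  haveI : Fact (Nat.Prime 5) := ⟨by norm_num⟩
  obtain ⟨x, y, t, -, -, -, hcard⟩ := h.sq c 5 (by norm_num)
    (fun e => by rw [e, orderOf_one] at hc; omega) hC
  have hd := h.card_sub_one_dvd
  have hgl := card_dvd_gl ρ h.inj hr
  rw [hr] at hd
  simp only [Fin.prod_univ_four] at hgl
  norm_num at hd hgl
  have hcop : (Nat.card E).Coprime (3 ^ 6) :=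
    Nat.Coprime.pow_right _ ((Nat.prime_three.coprime_iff_not_dvd).2 h.coprime).symm
  have h2 : Nat.card E ∣ 33280 := hcop.dvd_of_dvd_mul_left (m := 3 ^ 6) (by norm_num; exact hgl)
  rw [hcard] at hd h2
  have ht : t ≤ 81 := by
    by_contra hlt
    have := Nat.le_of_dvd (by norm_num) h2
    nlinarith
  have htv : t = 4 ∨ t = 8 ∨ t = 16 := by
    interval_cases t <;> omega
  obtain ⟨S, -⟩ := (⟨default, trivial⟩ : ∃ _ : Sylow 2 E, True)
  obtain ⟨a, ha, ha4⟩ : ∃ a, Nat.card E = 2 ^ a * 5 ∧ 4 ≤ a := by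
    rcases htv with rfl | rfl | rfl
    · exact ⟨4, by rw [hcard]; norm_num, le_rfl⟩
    · exact ⟨6, by rw [hcard]; norm_num, by norm_num⟩
    · exact ⟨8, by rw [hcard]; norm_num, by norm_num⟩
  have hS : Nat.card S = 2 ^ a := by
    rw [Sylow.card_eq_multiplicity, ha, Nat.factorization_mul (by positivity) (by norm_num),
      Finsupp.add_apply, Nat.prime_two.factorization_pow, Finsupp.single_eq_same,
      Nat.factorization_eq_zero_of_not_dvd (by norm_num : ¬ 2 ∣ 5), add_zero]
  have hidx : (S : Subgroup E).index = 5 := by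
    have e := (S : Subgroup E).card_mul_index
    rw [ha, hS] at e
    exact Nat.eq_of_mul_eq_mul_left (by positivity) e
  -- the core
  set K := (S : Subgroup E).normalCore with hKdef
  have hK2 : IsPGroup 2 K := S.isPGroup'.to_le (Subgroup.normalCore_le _)
  have hK1 : K ≠ ⊥ := by
    intro e
    have hker := (MulAction.toPermHom E (E ⧸ (S : Subgroup E))).ker_eq_bot_iff.1
      (by rw [← Subgroup.normalCore_eq_ker]; exact e)
    have h5 := Subgroup.card_dvd_of_injective _ hker
    rw [Nat.card_perm, ← Subgroup.index_eq_card, hidx, ha] at h5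
    have h16 : 16 ∣ Nat.factorial 5 := by
      refine Dvd.dvd.trans ?_ h5
      exact Dvd.dvd.mul_right ((show 16 = 2 ^ 4 by norm_num) ▸ Nat.pow_dvd_pow 2 ha4) _
    norm_num [Nat.factorial] at h16
  let Z : Subgroup E :=
    { carrier := {k | k ∈ K ∧ (∀ l ∈ K, Commute k l) ∧ k ^ 2 = 1}
      one_mem' := ⟨one_mem _, fun l _ => Commute.one_left l, one_pow _⟩
      mul_mem' := fun {a b} ha hb => ⟨mul_mem ha.1 hb.1, fun l hl => (ha.2.1 l hl).mul_left (hb.2.1 l hl),
        by rw [(ha.2.1 b hb.1).mul_pow, ha.2.2, hb.2.2, one_mul]⟩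
      inv_mem' := fun {a} ha => ⟨inv_mem ha.1, fun l hl => (ha.2.1 l hl).inv_left,
        by rw [inv_pow, ha.2.2, inv_one]⟩ }
  have hmemZ : ∀ k, k ∈ Z ↔ k ∈ K ∧ (∀ l ∈ K, Commute k l) ∧ k ^ 2 = 1 := fun k => Iff.rfl
  haveI hKn : K.Normal := Subgroup.normalCore_normal _
  have hZbot := not_normalizes_elementary ρ h.inj h.odd h.coprime hc hirr (by rw [hr]; norm_num) Z
    (fun a ha b hb => ha.2.1 b hb.1) (fun z hz => hz.2.2)
    (fun z hz => ⟨hKn.conj_mem z hz.1 c, fun l hl => by
      have hl' := hz.2.1 (c⁻¹ * l * c) (by simpa using hKn.conj_mem l hl c⁻¹)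
      have e := congrArg (fun w => c * w * c⁻¹) hl'.eq
      simp only [mul_assoc, mul_inv_cancel_left] at e
      show c * z * c⁻¹ * l = l * (c * z * c⁻¹)
      simpa [mul_assoc] using e, by rw [conj_pow, hz.2.2, mul_one, mul_inv_cancel]⟩)
    (fun z hz hcz => by
      have hmem : z ∈ Subgroup.centralizer ({c} : Set E) :=
        Subgroup.mem_centralizer_singleton_iff.2 hcz.symm.eq
      have h5 : orderOf z ∣ 5 := by
        rw [← hC, show orderOf z = orderOf (⟨z, hmem⟩ : Subgroup.centralizer ({c} : Set E)) from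
          Subgroup.orderOf_coe (⟨z, hmem⟩ : Subgroup.centralizer ({c} : Set E))]
        exact orderOf_dvd_natCard _
      have h2' : orderOf z ∣ 2 := orderOf_dvd_of_pow_eq_one hz.2.2
      exact orderOf_eq_one_iff.1 (Nat.eq_one_of_dvd_one ((Nat.dvd_gcd h5 h2').trans (by norm_num))))
  haveI : Nontrivial K := K.nontrivial_iff_ne_bot.2 hK1
  haveI := IsPGroup.center_nontrivial hK2
  have h2c : 2 ∣ Nat.card (Subgroup.center K) := by
    obtain ⟨n, hn0, hn⟩ :=
      ((hK2.to_subgroup (Subgroup.center K)).nontrivial_iff_card).1 inferInstance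
    exact hn ▸ dvd_pow_self 2 hn0.ne'
  obtain ⟨z₀, hz₀⟩ := exists_prime_orderOf_dvd_card' 2 h2c
  have hzE : orderOf ((z₀ : K) : E) = 2 := by
    rw [Subgroup.orderOf_coe, Subgroup.orderOf_coe, hz₀]
  have hmem : ((z₀ : K) : E) ∈ Z := (hmemZ _).2 ⟨(z₀ : K).2, fun l hl =>
    (congrArg Subtype.val (Subgroup.mem_center_iff.1 z₀.2 ⟨l, hl⟩)).symm, by
      rw [← hzE, pow_orderOf_eq_one]⟩
  rw [hZbot, Subgroup.mem_bot] at hmem
  rw [hmem, orderOf_one] at hzE
  omega

/-- Such a space has three elements. -/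
theorem Hyp.card_eq_three [Nontrivial V] : Nat.card V = 3 := by
  have hp : p.Prime := Fact.out
  set r := finrank (ZMod p) V with hr
  have hr0 : 0 < r := Module.finrank_pos
  rcases (show r = 1 ∨ 2 ≤ r by omega) with h1 | h2
  · exact h.finrank_one h1
  exfalso
  have hu : ∀ c : E, ∀ w : ℕ, w.Prime → orderOf c = w →
      Nat.card (Subgroup.centralizer ({c} : Set E)) = w →
      ∃ x y : ℕ, 0 < x ∧ 0 < y ∧ x ^ 2 + y ^ 2 = w := fun c w hw hc hC => by
    obtain ⟨x, y, t, hx, hy, hxy, -⟩ :=
      h.sq c w hw (fun e => hw.ne_one (by rw [← hc, e, orderOf_one])) hC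
    exact ⟨x, y, hx, hy, hxy⟩
  have hsum : ∀ x y : ℕ, 0 < x → 0 < y → x ^ 2 + y ^ 2 = 3 ∨ x ^ 2 + y ^ 2 = 7 → False := by
    intro x y hx hy e
    have hx3 : x < 3 := by rcases e with e | e <;> nlinarith
    have hy3 : y < 3 := by rcases e with e | e <;> nlinarith
    interval_cases x <;> interval_cases y <;> omega
  by_cases hex : (r = 2 ∧ ∃ s t : ℕ, t ≤ 1 ∧ p + 1 = 2 ^ s * 3 ^ t) ∨
      (p = 3 ∧ (r = 4 ∨ r = 6)) ∨ (p = 5 ∧ r = 6)
  · rcases hex with ⟨hr2, s, t, ht, hst⟩ | ⟨hp3, hr4 | hr6⟩ | ⟨hp5, hr6⟩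
    · interval_cases t
      · rw [pow_zero, mul_one] at hst
        exact h.mersenne hr2 hst
      · rw [pow_one] at hst
        have h3 : 3 ∣ p + 1 := ⟨2 ^ s, by rw [hst, mul_comm]⟩
        have hsq : p ^ 2 - 1 = (p + 1) * (p - 1) := by
          have e := Nat.sq_sub_sq p 1
          rwa [one_pow] at e
        obtain ⟨-, -, c, hc, -, hC⟩ := h.primitive hr2 le_rfl (w := 3) Nat.prime_three
          (hsq ▸ h3.mul_right _) (fun i h1 h2 hd => by
            obtain rfl : i = 1 := by omega
            rw [pow_one] at hd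
            have := hp.two_le
            have e := Nat.dvd_sub h3 hd
            rw [show p + 1 - (p - 1) = 2 by omega] at e
            omega)
        obtain ⟨x, y, hx, hy, e⟩ := hu c 3 Nat.prime_three hc hC
        exact hsum x y hx hy (Or.inl e)
    · exact h.eighty_one hr4 hp3
    · subst hp3
      obtain ⟨-, -, c, hc, -, hC⟩ := h.primitive hr6 (by norm_num) (w := 7) (by norm_num)
        (by norm_num) (fun i h1 h2 => by interval_cases i <;> norm_num)
      obtain ⟨x, y, hx, hy, e⟩ := hu c 7 (by norm_num) hc hC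
      exact hsum x y hx hy (Or.inr e)
    · subst hp5
      obtain ⟨-, -, c, hc, -, hC⟩ := h.primitive hr6 (by norm_num) (w := 7) (by norm_num)
        (by norm_num) (fun i h1 h2 => by interval_cases i <;> norm_num)
      obtain ⟨x, y, hx, hy, e⟩ := hu c 7 (by norm_num) hc hC
      exact hsum x y hx hy (Or.inr e)
  · simp only [not_or] at hex
    obtain ⟨w, hw, hdvd, hprim, hlarge⟩ := Zsigmondy.exists_large_primitive_prime_divisor p r
      hp.two_le h2 hex.1 (fun e => h.odd e.1) hex.2.1 hex.2.2
    obtain ⟨hw1, hsq, -⟩ := h.primitive (hr.symm) h2 hw hdvd hprim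
    rcases hlarge with e | e
    · omega
    · exact hsq e

end Cfsg.Agent.Blocks.ThreeChars
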