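import Cfsg.Agent.S4648
import Cfsg.Agent.Lib.BrauerPairs.CorrespondenceNormal
import Cfsg.Agent.Lib.Blocks.ThreeChars.LinearMain
import Cfsg.Agent.Lib.Char.TwoOver
import Cfsg.Agent.Lib.Char.CliffordGallagher
import Cfsg.Agent.Lib.BlocksX.CentralProduct
import Cfsg.Agent.Lib.BlocksX.Quotient
import Cfsg.Agent.Lib.Blocks.NormalPair
import Cfsg.Agent.Lib.PGroup.Frattini
import Cfsg.Agent.Lib.RankTwoClass.Inside
import Mathlib.GroupTheory.Frattini
import Mathlib.GroupTheory.Commutator.Basic

/-!
# Blocks with a normal defect group and at most three characters trivial on its Frattini subgroup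

`card_eq_three_of_elementary`: a block with at most three characters and a normal elementary
abelian defect group, `p` odd, has defect group of order three.
`card_eq_three_mul_frattini`: the same for `D / Φ(D)`.
-/

set_option autoImplicit false
set_option linter.style.haveILetI false
set_option linter.unusedSectionVars false
set_option maxHeartbeats 1000000

namespace Cfsg.Agent.Blocks.ThreeChars

open Cfsg Cfsg.Agent Cfsg.Agent.BrauerPairs
open scoped Cfsg.Agent.Blocks commutatorElement

universe u

variable {G : Type u} [Group G] [Finite G] {p : ℕ} [hp : Fact p.Prime] {M : Ideal AlgInt}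

theorem one_le_blockRank {B : Set (IrrCharacter G)} [M.IsMaximal] (hB : IsPBlock M B) :
    1 ≤ blockRank p B := by
  classical
  haveI := Fintype.ofFinite G
  obtain ⟨χ, hχ⟩ := Blocks.block_nonempty hB
  refine Nat.one_le_iff_ne_zero.2 fun h => Blocks.irr_one_ne_zero χ ?_
  rw [blockRank, Submodule.finrank_eq_zero, Submodule.span_eq_bot] at h
  have h1 := congrFun (h _ ⟨χ, hχ, rfl⟩) 1
  dsimp only at h1
  rw [pRegularPart_eq_regFun, Char.regFun, if_neg (by simp [hp.out.ne_one])] at h1
  exact h1

/-- Some member of a block of positive defect is nontrivial on a given normal defect group. -/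
theorem exists_not_trivOn [M.IsMaximal] (hpM : (p : AlgInt) ∈ M) {B : Set (IrrCharacter G)}
    (hB : IsPBlock M B) {D : Subgroup G} (hD : IsDefectGroup p M B D) {y : G} (hy : y ∈ D)
    (hy1 : y ≠ 1) : ∃ χ ∈ B, ¬ Char.TrivOn D χ.1 := by
  classical
  haveI := Fintype.ofFinite G
  by_contra! hall
  obtain ⟨h, hh, hhD⟩ := Blocks.isDefectGroup_iff.1 hD
  have hreg := Blocks.IsDefectClass.isPRegular hpM hB hh
  obtain ⟨k, hk⟩ := IsPGroup.iff_orderOf.1 (Blocks.IsDefectGroup.isPGroup hD) ⟨y, hy⟩
  rw [Subgroup.orderOf_mk] at hk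
  have hnr : ¬ IsPRegular p (h * y) := fun hr => hy1
    ((Blocks.isPRegular_mul_iff ((Blocks.le_centralizer_singleton.1 hhD.1) _ hy).symm hreg
      ⟨k, hk⟩).1 hr)
  have h0 := Blocks.blockCoeff_eq_zero hpM hB hnr
  refine hh.2.1 ?_
  rw [Blocks.blockCoeff_eq_sum] at h0 ⊢
  rw [show ∑ χ ∈ Finset.univ.filter (· ∈ B), χ.1 1 * (starRingEnd ℂ) (χ.1 h) =
      ∑ χ ∈ Finset.univ.filter (· ∈ B), χ.1 1 * (starRingEnd ℂ) (χ.1 (h * y)) from
    Finset.sum_congr rfl fun χ hχ => by
      rw [CharInt.char_mul_comm (Char.irr_isCharacter χ) h,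
        CharInt.char_mul_of_mem_kernel (Char.irr_isCharacter χ)
          (hall χ (Finset.mem_filter.1 hχ).2 y hy)],
    h0]
  exact Blocks.memLocalIdeal_zero

/-- A block with at most three characters and a normal elementary abelian defect group, `p` odd. -/
theorem card_eq_three_of_elementary (hp2 : p ≠ 2) (hM : IsPModular p M)
    {B : Set (IrrCharacter G)} (hB : IsPBlock M B) {D : Subgroup G} [D.Normal]
    (hD : IsDefectGroup p M B D) (hne : D ≠ ⊥) (hab : ∀ x ∈ D, ∀ y ∈ D, x * y = y * x)
    (hexp : ∀ x ∈ D, x ^ p = 1) (hk : Nat.card B ≤ 3) : Nat.card D = 3 := by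
  classical
  letI := Fintype.ofFinite G
  haveI : M.IsMaximal := hM.2.1
  haveI : CharP (AlgInt ⧸ M) p := Blocks.charP_residue hM.2.2
  have hpM := hM.2.2
  have hDcard := Blocks.card_defectGroup hpM hB hD
  have hd : blockDefect p B ≠ 0 := fun h => hne (by
    rw [h, pow_zero] at hDcard
    exact Subgroup.eq_bot_of_card_eq D hDcard)
  -- the case of rank one
  by_cases hl1 : blockRank p B ≤ 1
  · obtain ⟨hpd, hp23⟩ := S4648.card_eq_defect hpM hB (le_antisymm hl1 (one_le_blockRank hB))
      (by omega) hd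
    have hp3 : p = 3 := hp23.resolve_left hp2
    have hle : (3 : ℕ) ^ blockDefect p B ≤ 3 ^ 1 := by rw [← hp3, hpd, hp3]; omega
    have := (Nat.pow_le_pow_iff_right (by norm_num : 1 < 3)).1 hle
    rw [hDcard, show blockDefect p B = 1 by omega, pow_one, hp3]
  have hl2 : 2 ≤ blockRank p B := by omega
  -- the block of `C_G(D)`
  have hDp : IsPGroup p D := Blocks.IsDefectGroup.isPGroup hD
  set C := Subgroup.centralizer (D : Set G) with hCdef
  have hDC : D ≤ C := fun x hx => Subgroup.mem_centralizer_iff.2 fun y hy => hab y hy x hx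
  have hnD : Subgroup.normalizer (D : Set G) = ⊤ := Subgroup.normalizer_eq_top_iff.2 ‹D.Normal›
  haveI hCn : C.Normal := by
    rw [← Subgroup.normalizer_eq_top_iff, ← top_le_iff, ← hnD]
    exact normalizer_le_normalizer_centralizer D
  haveI := Fintype.ofFinite C
  obtain ⟨c, hc, ha⟩ := exists_isMax_of_isDefectGroup hB hD
  have hind : IsInducedBlock M C c B :=
    (isInducedBlock_iff_br hpM hDp hDC le_rfl (Subgroup.centralizer_le_normalizer _) hc hB).2 ha.1.2
  have hDc : IsDefectGroup p M c (D.subgroupOf C) :=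
    Blocks.IsInducedBlock.isDefectGroup_subgroupOf hpM hDC (Subgroup.centralizer_le_normalizer _) hind hD
  haveI : (D.subgroupOf C).Normal := Subgroup.Normal.subgroupOf ‹D.Normal› C
  have htop : D.subgroupOf C ⊔ Subgroup.centralizer ((D.subgroupOf C : Subgroup C) : Set C) = ⊤ :=
    eq_top_iff.2 (le_sup_of_le_right fun x _ => Subgroup.mem_centralizer_iff.2 fun z hz =>
      Subtype.ext (Subgroup.mem_centralizer_iff.1 x.2 (z : G) hz))
  obtain ⟨θ, ⟨hθc, hθD⟩, huniq⟩ :=
    BlocksX.existsUnique_trivOn hpM hDp.comap_subtype htop hc hDc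
  -- the stabilizer of the block is the inertia group
  set T := stabOf D (blk M C c) with hTdef
  set I := Char.inertia C θ.1 with hIdef
  have hTI : T = I := by
    ext g
    have hgN : g ∈ Subgroup.normalizer (C : Set G) := by
      rw [Subgroup.normalizer_eq_top_iff.2 hCn]; exact Subgroup.mem_top g
    have hgD : g ∈ Subgroup.normalizer (D : Set G) := by rw [hnD]; exact Subgroup.mem_top g
    rw [hTdef, mem_stabOf, and_iff_right hgD, ← stabilizesBlock_iff hc hgN, hIdef,
      Char.mem_inertia]
    constructor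
    · rintro ⟨-, h⟩
      obtain ⟨θ', hθ', hconj⟩ := h θ hθc
      have ht : Char.TrivOn (D.subgroupOf C) θ'.1 := fun x hx => by
        set k : C := ⟨g⁻¹ * (x : G) * g, by simpa using hCn.conj_mem _ x.2 g⁻¹⟩ with hkdef
        rw [hconj k x (by simp only [hkdef]; group), hconj 1 1 (by simp)]
        exact hθD k (Subgroup.mem_subgroupOf.2 (by
          simpa [hkdef] using ‹D.Normal›.conj_mem _ hx g⁻¹))
      have he : θ' = θ := huniq θ' ⟨hθ', ht⟩
      subst he
      exact (Char.conjFun_eq_self_iff C θ'.1 g).2 hconj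
    · intro h
      refine ⟨hgN, fun χ hχ => ⟨Char.conjChar C χ g⁻¹, ?_, fun k k' hk' => ?_⟩⟩
      · have hg' : g⁻¹ ∈ Char.inertia C θ.1 := inv_mem ((Char.mem_inertia C).2 h)
        have hs := BlocksX.sameBlock_conjFun C (Blocks.sameBlock_of_mem hc hθc hχ) g⁻¹
        rw [show Char.conjFun C θ.1 g⁻¹ = θ.1 from hg'] at hs
        rw [Blocks.block_eq hc hθc]
        exact hs
      · exact congrArg χ.1 (Subtype.ext (by
          rw [MulAut.conjNormal_apply, hk']
          group))
  have hindex : ¬ p ∣ C.relIndex T := by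
    have h := Watanabe.not_dvd_relIndex_stabIn hB ha hDC (R := ⊥) bot_le
    rwa [show Watanabe.stabIn D (blk M C c) ⊥ = T from inf_eq_left.2 fun g _ =>
      Subgroup.mem_centralizer_iff.2 fun x hx => by rw [Subgroup.mem_bot.1 hx, one_mul, mul_one]] at h
  -- `T` is transitive on the nonidentity elements
  have htrans : ∀ a ∈ D, ∀ b ∈ D, a ≠ 1 → b ≠ 1 → b ∈ Watanabe.orb T a := by
    intro a haD b hbD ha1 hb1
    by_contra hb'
    let r : D → ℕ := fun y => blockRank p (Blocks.NilRank.blkSet M
      (Subgroup.centralizer ({(y : G)} : Set G)) (Blocks.NilRank.eU p D (blk M C c) (y : G)))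
    have hr1 : ∀ y, 1 ≤ r y := fun y => one_le_blockRank (Blocks.NilRank.blkSet_spec
      (Blocks.NilRank.isBlockIdem_eU ha.1.1 y.2)).1
    have hr2 : 2 ≤ r 1 := by
      obtain ⟨hb, hbe⟩ := Blocks.NilRank.blkSet_spec (M := M)
        (Blocks.NilRank.isBlockIdem_eU ha.1.1 (1 : D).2)
      have h := (Watanabe.rho_kap_eq ha.1.1 Blocks.centralizer_zpowers_eq.symm hb
        (by rw [hbe]; exact Blocks.NilRank.eU_spec ha.1.1 (1 : D).2)).1
      show 2 ≤ blockRank p _
      rw [h, OneMemClass.coe_one, Subgroup.zpowers_one_eq_bot, (Watanabe.rho_kap_bot hB ha.1).1]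
      exact hl2
    have hsum : ∑ y : D, (r y : ℝ) / (Watanabe.orb T (y : G)).card = (Nat.card B : ℝ) := by
      have h := congrArg Complex.re (Watanabe.sum_wt hpM hB ha hDC)
      simpa [Watanabe.wt, Complex.re_sum, ← Complex.ofReal_natCast, ← Complex.ofReal_div,
        Complex.ofReal_re, r, hTdef] using h
    let S : G → Finset D := fun x => Finset.univ.filter fun y : D => (y : G) ∈ Watanabe.orb T x
    have hconjD : ∀ g : G, ∀ x ∈ D, g * x * g⁻¹ ∈ D := fun g x hx => ‹D.Normal›.conj_mem x hx g
    have hSge : ∀ x ∈ D, (1 : ℝ) ≤ ∑ y ∈ S x, (r y : ℝ) / (Watanabe.orb T (y : G)).card := by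
      intro x hx
      have hcard : (S x).card = (Watanabe.orb T x).card := by
        rw [← Finset.card_map (Function.Embedding.subtype (· ∈ D))]
        congr 1
        ext z
        simp only [S, Finset.mem_map, Finset.mem_filter, Finset.mem_univ, true_and,
          Function.Embedding.subtype_apply]
        constructor
        · rintro ⟨y, hy, rfl⟩
          exact hy
        · intro hz
          obtain ⟨t, -, rfl⟩ := Watanabe.mem_orb.1 hz
          exact ⟨⟨_, hconjD t x hx⟩, hz, rfl⟩
      have hpos : 0 < (Watanabe.orb T x).card :=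
        Finset.card_pos.2 ⟨x, Watanabe.self_mem_orb T x⟩
      calc (1 : ℝ) = ∑ _y ∈ S x, (1 : ℝ) / (Watanabe.orb T x).card := by
            rw [Finset.sum_const, nsmul_eq_mul, hcard, mul_one_div, div_self]
            exact_mod_cast hpos.ne'
        _ ≤ _ := Finset.sum_le_sum fun y hy => by
            rw [Watanabe.orb_eq_of_mem (Finset.mem_filter.1 hy).2]
            exact div_le_div_of_nonneg_right (by exact_mod_cast hr1 y) (Nat.cast_nonneg _)
    have horb1 : ∀ x : G, x ≠ 1 → (1 : G) ∉ Watanabe.orb T x := fun x hx h => by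
      obtain ⟨t, -, ht⟩ := Watanabe.mem_orb.1 h
      exact hx (by simpa using ht)
    have hdis1 : Disjoint ({1} : Finset D) (S a ∪ S b) := by
      rw [Finset.disjoint_singleton_left]
      simp [S, horb1 a ha1, horb1 b hb1]
    have hdis2 : Disjoint (S a) (S b) := by
      rw [Finset.disjoint_left]
      intro y hy hy'
      refine hb' ?_
      rw [← Watanabe.orb_eq_of_mem (Finset.mem_filter.1 hy).2,
        Watanabe.orb_eq_of_mem (Finset.mem_filter.1 hy').2]
      exact Watanabe.self_mem_orb T b
    have h4 : (4 : ℝ) ≤ Nat.card B := by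
      rw [← hsum]
      refine le_trans ?_ (Finset.sum_le_sum_of_subset_of_nonneg
        (Finset.subset_univ ({1} ∪ (S a ∪ S b))) fun y _ _ => by positivity)
      rw [Finset.sum_union hdis1, Finset.sum_union hdis2, Finset.sum_singleton]
      have h1 : ((Watanabe.orb T (((1 : D) : D) : G)).card : ℝ) = 1 := by
        rw [show Watanabe.orb T (((1 : D) : D) : G) = {1} from ?_]
        · simp
        · ext z
          rw [Watanabe.mem_orb, Finset.mem_singleton]
          constructor
          · rintro ⟨t, -, rfl⟩; simp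
          · rintro rfl; exact ⟨1, one_mem _, by simp⟩
      rw [h1, div_one]
      have h2 : (2 : ℝ) ≤ r 1 := by exact_mod_cast hr2
      linarith [hSge a haD, hSge b hbD]
    have h4' : 4 ≤ Nat.card B := by exact_mod_cast h4
    omega
  -- at most two characters over `θ`
  have hover : ∀ χ : IrrCharacter G, classInner (Char.resFun C χ.1) θ.1 ≠ 0 →
      χ ∈ B ∧ Char.TrivOn D χ.1 := by
    intro χ hχ
    refine ⟨?_, fun x hx => ?_⟩
    · have h := Blocks.isInducedBlock_of_covers hpM hDp (le_of_eq hCdef.symm) hc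
        (Blocks.isPBlock_blockOf χ) (Blocks.mem_blockOf_self χ) hθc hχ
      rw [Blocks.IsInducedBlock.unique hind h]
      exact Blocks.mem_blockOf_self χ
    · have hres := Char.resFun_eq_smul_orbitSum C χ θ hχ
      have e1 := congrFun hres ⟨x, hDC hx⟩
      have e2 := congrFun hres 1
      simp only [Pi.smul_apply, Char.orbitSum, Finset.sum_apply, Char.resFun_apply,
        Subgroup.coe_one] at e1 e2
      rw [e1, e2]
      refine congrArg _ (Finset.sum_congr rfl fun η hη => ?_)
      obtain ⟨g, rfl⟩ := (Char.mem_orbitFinset C).1 hη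
      rw [Char.conjChar_coe, Char.conjFun_apply_one]
      exact hθD _ (Subgroup.mem_subgroupOf.2 (by
        simpa using ‹D.Normal›.conj_mem x hx g))
  obtain ⟨y₀, hy₀, hy₀1⟩ : ∃ y ∈ D, y ≠ 1 := by
    by_contra! h
    exact hne ((Subgroup.eq_bot_iff_forall D).2 h)
  obtain ⟨Ψ, hΨ, hΨD⟩ := exists_not_trivOn hpM hB hD hy₀ hy₀1
  have htwoG : Nat.card {χ : IrrCharacter G // classInner (Char.resFun C χ.1) θ.1 ≠ 0} ≤ 2 := by
    have hlt : {χ : IrrCharacter G | classInner (Char.resFun C χ.1) θ.1 ≠ 0}.ncard < B.ncard :=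
      Set.ncard_lt_ncard ⟨fun χ hχ => (hover χ hχ).1, fun hsub => hΨD (hover Ψ (hsub hΨ)).2⟩
        B.toFinite
    rw [← Nat.card_coe_set_eq B, ← Nat.card_coe_set_eq] at hlt
    show Nat.card {χ : IrrCharacter G | classInner (Char.resFun C χ.1) θ.1 ≠ 0} ≤ 2
    omega
  -- the inertia group
  haveI := Fintype.ofFinite (Char.inertia C θ.1)
  have hCI : C ≤ I := Char.irr_le_inertia C θ
  set C' := C.subgroupOf I with hC'
  haveI := Fintype.ofFinite C'
  set θ' := Char.toSubgroupOf C hCI θ with hθ'
  have hinv : ∀ g : I, Char.conjFun C' θ'.1 g = θ'.1 := fun g =>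
    (Char.conjFun_toSubgroupOf_iff C hCI θ g).2 g.2
  have htwo : Nat.card {η // Char.TwoOver.Over C' θ' η} ≤ 2 := by
    refine le_trans ?_ htwoG
    refine Nat.card_le_card_of_injective
      (fun η => ⟨Char.cliffordInduce C θ ⟨η.1, ?_⟩, ?_⟩) ?_
    · have := η.2
      rwa [Char.TwoOver.Over, Char.classInner_toSubgroupOf C hCI η.1.1 θ] at this
    · rw [Char.classInner_resFun_cliffordInduce]
      have := η.2
      rwa [Char.TwoOver.Over, Char.classInner_toSubgroupOf C hCI η.1.1 θ] at this
    · intro η η' h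
      have h' := (Char.cliffordInduce_bijective C θ).1 (congrArg Subtype.val h)
      exact Subtype.ext (congrArg (fun z => z.1) h')
  -- the module
  letI : CommGroup D :=
    { (inferInstance : Group D) with
      mul_comm := fun x y => Subtype.ext (hab _ x.2 _ y.2) }
  haveI : Module (ZMod p) (Additive D) := AddCommGroup.zmodModule fun x => by
    show Additive.ofMul ((Additive.toMul x : D) ^ p) = 0
    rw [show (Additive.toMul x : D) ^ p = 1 from Subtype.ext (by
      simpa using hexp _ (Additive.toMul x : D).2)]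
    rfl
  haveI : Finite (Additive D) := Finite.of_equiv D Additive.ofMul
  haveI : Nontrivial D := D.nontrivial_iff_ne_bot.2 hne
  haveI : Nontrivial (Additive D) := inferInstance
  let af : I → (Additive D →+ Additive D) := fun g =>
    MonoidHom.toAdditive ((MulAut.conjNormal (g : G) : MulAut D).toMonoidHom)
  let cj : I → (Additive D →ₗ[ZMod p] Additive D) := fun g => (af g).toZModLinearMap p
  have hcj : ∀ (g : I) (v : Additive D),
      ((Additive.toMul (cj g v) : D) : G) = (g : G) * (Additive.toMul v : D) * (g : G)⁻¹ :=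
    fun g v => MulAut.conjNormal_apply (g : G) (Additive.toMul v : D)
  let ρ₀ : I →* Module.End (ZMod p) (Additive D) :=
    { toFun := cj
      map_one' := LinearMap.ext fun v => by
        refine Additive.toMul.injective (Subtype.ext ?_)
        rw [hcj]
        simp
      map_mul' := fun g h => LinearMap.ext fun v => by
        refine Additive.toMul.injective (Subtype.ext ?_)
        rw [Module.End.mul_apply, hcj, hcj, hcj, Subgroup.coe_mul]
        group }
  have hker : C' ≤ ρ₀.ker := fun g hg => LinearMap.ext fun v => by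
    refine Additive.toMul.injective (Subtype.ext ?_)
    show ((Additive.toMul (cj g v) : D) : G) = _
    rw [hcj, ← Subgroup.mem_centralizer_iff.1 (Subgroup.mem_subgroupOf.1 hg) _
      (Additive.toMul v : D).2, mul_inv_cancel_right]
    rfl
  let ρ := QuotientGroup.lift C' ρ₀ hker
  have hρ : ∀ (g : I) (v : Additive D), ((Additive.toMul ((ρ (g : I ⧸ C') : Additive D →ₗ[ZMod p] Additive D) v) : D) : G) =
      (g : G) * (Additive.toMul v : D) * (g : G)⁻¹ := hcj
  have hyp : Hyp ρ :=
    { inj := by
        rw [← MonoidHom.ker_eq_bot_iff, Subgroup.eq_bot_iff_forall]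
        intro q hq
        obtain ⟨g, rfl⟩ := QuotientGroup.mk_surjective q
        refine (QuotientGroup.eq_one_iff g).2 (Subgroup.mem_subgroupOf.2
          (Subgroup.mem_centralizer_iff.2 fun x hx => ?_))
        have e := hρ g (Additive.ofMul ⟨x, hx⟩)
        rw [MonoidHom.mem_ker.1 hq, Module.End.one_apply] at e
        exact (eq_mul_inv_iff_mul_eq.1 e)
      odd := hp2
      coprime := by
        rw [hTI] at hindex
        exact hindex
      trans := fun v w hv hw => by
        have hne1 : ∀ z : Additive D, z ≠ 0 → ((Additive.toMul z : D) : G) ≠ 1 := fun z hz e =>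
          hz (Additive.toMul.injective (Subtype.ext e))
        obtain ⟨t, ht, hte⟩ := Watanabe.mem_orb.1 (htrans _ (Additive.toMul v : D).2 _
          (Additive.toMul w : D).2 (hne1 v hv) (hne1 w hw))
        refine ⟨((⟨t, hTI ▸ ht⟩ : I) : I ⧸ C'), Additive.toMul.injective (Subtype.ext ?_)⟩
        rw [hρ]
        exact hte
      oneClass := fun q q' hq hq' hc1 hc2 => by
        by_contra hnc
        have h := Char.TwoOver.card_add_one_le (θ := θ') hinv ![q, q']
          (fun i => by fin_cases i <;> assumption) (fun i => by fin_cases i <;> assumption)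
          (fun i j hij => by
            fin_cases i <;> fin_cases j <;>
              first | exact absurd rfl hij | exact hnc | exact fun e => hnc e.symm)
        rw [Fintype.card_fin] at h
        have htwo' : Nat.card {η // Char.TwoOver.Over (C.subgroupOf I) θ' η} ≤ 2 := htwo
        omega
      sq := fun q w hw hq hC => Char.TwoOver.exists_sq_add_sq hinv htwo hw hq hC }
  have h3 := hyp.card_eq_three
  rwa [Nat.card_congr Additive.toMul] at h3

/-- The Frattini subgroup of `D`, in `G`. -/
abbrev phiSub (D : Subgroup G) : Subgroup G := (frattini D).map D.subtype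

theorem phiSub_le (D : Subgroup G) : phiSub D ≤ D := Subgroup.map_subtype_le _

/-- At most three characters trivial on `Φ(D)`: `|D : Φ(D)| = 3`. -/
theorem card_eq_three_mul_frattini (hp2 : p ≠ 2) (hM : IsPModular p M)
    {B : Set (IrrCharacter G)} (hB : IsPBlock M B) {D : Subgroup G} [D.Normal]
    (hD : IsDefectGroup p M B D) (hne : D ≠ ⊥)
    (hk : Nat.card {χ : IrrCharacter G // χ ∈ B ∧ Char.TrivOn (phiSub D) χ.1} ≤ 3) :
    p = 3 ∧ IsCyclic D := by
  classical
  haveI : M.IsMaximal := hM.2.1
  have hpM := hM.2.2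
  haveI : (phiSub D).Normal := ConjAct.normal_of_characteristic_of_normal
  have hDp : IsPGroup p D := Blocks.IsDefectGroup.isPGroup hD
  have hΦp : IsPGroup p (phiSub D) := hDp.to_le (phiSub_le D)
  obtain ⟨Bb, hBb, hsub, hdef⟩ := BlocksX.exists_block_quotient (phiSub D) hpM hB hΦp
  set π := QuotientGroup.mk' (phiSub D)
  haveI : (D.map π).Normal := Subgroup.Normal.map ‹D.Normal› _ (QuotientGroup.mk'_surjective _)
  have hDb : IsDefectGroup p M Bb (D.map π) := (hdef _).2 ⟨D, hD, rfl⟩
  have hnt : frattini D ≠ ⊤ := fun h => by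
    haveI : Nontrivial D := D.nontrivial_iff_ne_bot.2 hne
    have h1 := frattini_nongenerating (G := D) (K := (⊥ : Subgroup D)) (by rw [bot_sup_eq, h])
    exact bot_ne_top h1
  have hlift : ∀ x : D, ((x : G) : G ⧸ phiSub D) = 1 → x ∈ frattini D := fun x hx => by
    obtain ⟨y, hy, hyx⟩ := (QuotientGroup.eq_one_iff (x : G)).1 hx
    rwa [← Subtype.ext (show (y : G) = x from hyx)]
  have hmapne : D.map π ≠ ⊥ := fun h => hnt ((Subgroup.eq_top_iff' _).2 fun x => hlift x (by
    have := Subgroup.mem_map_of_mem π x.2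
    rw [h, Subgroup.mem_bot] at this
    exact this))
  have hexp : ∀ z ∈ D.map π, z ^ p = 1 := by
    rintro _ ⟨x, hx, rfl⟩
    rw [← map_pow]
    exact (QuotientGroup.eq_one_iff _).2
      ⟨(⟨x, hx⟩ : D) ^ p, PGroup.pow_mem_frattini hDp _, rfl⟩
  have hab : ∀ z ∈ D.map π, ∀ w ∈ D.map π, z * w = w * z := by
    rintro _ ⟨x, hx, rfl⟩ _ ⟨y, hy, rfl⟩
    rw [← commutatorElement_eq_one_iff_mul_comm, ← map_commutatorElement]
    exact (QuotientGroup.eq_one_iff _).2 ⟨⁅(⟨x, hx⟩ : D), (⟨y, hy⟩ : D)⁆,
      PGroup.commutator_le_frattini hDp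
        (Subgroup.commutator_mem_commutator (Subgroup.mem_top _) (Subgroup.mem_top _)), rfl⟩
  have hBk : Nat.card Bb ≤ 3 := by
    refine le_trans (Nat.card_le_card_of_injective
      (fun χ : Bb => (⟨Char.inflate (phiSub D) χ.1, hsub χ.1 χ.2, Char.trivOn_inflate _ _⟩ :
        {χ : IrrCharacter G // χ ∈ B ∧ Char.TrivOn (phiSub D) χ.1})) ?_) hk
    exact fun a b h => Subtype.ext (Char.inflate_injective _ (congrArg Subtype.val h))
  have h3 := card_eq_three_of_elementary hp2 hM hBb hDb hmapne hab hexp hBk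
  have hp3 : p = 3 := by
    obtain ⟨n, hn⟩ := IsPGroup.iff_card.1 (hDp.map π)
    rw [h3] at hn
    have hn0 : n ≠ 0 := fun e => by rw [e, pow_zero] at hn; omega
    exact ((Nat.prime_dvd_prime_iff_eq hp.out Nat.prime_three).1 (hn ▸ dvd_pow_self p hn0))
  refine ⟨hp3, RankTwoClass.isCyclic_of_frattini_index_le hDp (le_of_eq ?_)⟩
  have hker : (π.comp D.subtype).ker = frattini D := Subgroup.ext fun x =>
    ⟨fun hx => hlift x hx, fun hx => (QuotientGroup.eq_one_iff _).2 ⟨x, hx, rfl⟩⟩
  have hrange : (π.comp D.subtype).range = D.map π := by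
    rw [MonoidHom.range_comp, Subgroup.range_subtype]
  rw [← hker, Subgroup.index_ker, hrange, h3, hp3]

end Cfsg.Agent.Blocks.ThreeChars
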