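import Mathlib.Algebra.Field.ZMod
import Mathlib.Data.ZMod.Basic
import Mathlib.RingTheory.IntegralDomain
import Mathlib.FieldTheory.Finiteness
import Mathlib.GroupTheory.PGroup
import Mathlib.GroupTheory.GroupAction.Quotient
import Mathlib.LinearAlgebra.Charpoly.Basic
import Mathlib.LinearAlgebra.Matrix.GeneralLinearGroup.Card
import Mathlib.LinearAlgebra.Matrix.ToLin
import Mathlib.GroupTheory.Sylow
import Mathlib.FieldTheory.Minpoly.Field

/-!
# Linear groups over the prime field: irreducible elements and elementary abelian `2`-subgroups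

Auxiliary facts on a faithful representation `ρ : E →* End V`, `V` finite over `ZMod p`.
-/

set_option autoImplicit false
set_option linter.style.haveILetI false
set_option linter.unusedSectionVars false
set_option maxHeartbeats 1000000

namespace Cfsg.Agent.Blocks.ThreeChars

open Module (finrank)

variable {E : Type*} [Group E] [Finite E] {p : ℕ} [Fact p.Prime] {V : Type*} [AddCommGroup V]
  [Module (ZMod p) V] [Finite V] (ρ : E →* Module.End (ZMod p) V)

/-- `c` has no invariant proper nonzero subspace. -/
def Irred (c : E) : Prop :=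
  ∀ W : Submodule (ZMod p) V, (∀ v ∈ W, ρ c v ∈ W) → W = ⊥ ∨ W = ⊤

theorem apply_eq_of_commute {c h : E} (hc : Commute c h) (v : V) :
    ρ c (ρ h v) = ρ h (ρ c v) := by
  rw [← Module.End.mul_apply, ← map_mul, hc.eq, map_mul, Module.End.mul_apply]

theorem apply_inv_apply (g : E) (v : V) : ρ g⁻¹ (ρ g v) = v := by
  rw [← Module.End.mul_apply, ← map_mul, inv_mul_cancel, map_one, Module.End.one_apply]

/-- The centralizer of an irreducible element is cyclic. -/
theorem isCyclic_centralizer_of_irred [Nontrivial V] (hinj : Function.Injective ρ) {c : E}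
    (hc : Irred ρ c) : IsCyclic (Subgroup.centralizer ({c} : Set E)) := by
  obtain ⟨v₀, hv₀⟩ := exists_ne (0 : V)
  set A := Algebra.adjoin (ZMod p) ({ρ c} : Set (Module.End (ZMod p) V)) with hA
  have hcA : ρ c ∈ A := Algebra.subset_adjoin rfl
  have hcommA : ∀ a ∈ A, Commute (ρ c) a := fun a ha =>
    (Algebra.commute_of_mem_adjoin_self ha)
  have hker : ∀ f : Module.End (ZMod p) V, Commute (ρ c) f →
      LinearMap.ker f = ⊥ ∨ LinearMap.ker f = ⊤ := fun f hf => hc _ fun v hv => by
    rw [LinearMap.mem_ker] at hv ⊢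
    rw [← Module.End.mul_apply, ← hf.eq, Module.End.mul_apply, hv, map_zero]
  have hmem : ∀ f : Module.End (ZMod p) V, Commute (ρ c) f → f ∈ A := by
    intro f hf
    let W : Submodule (ZMod p) V := A.toSubmodule.map (LinearMap.applyₗ v₀)
    have hW : W = ⊤ := by
      refine (hc W ?_).resolve_left fun h => hv₀ ?_
      · rintro _ ⟨a, ha, rfl⟩
        exact ⟨ρ c * a, A.mul_mem hcA ha, rfl⟩
      · have h1 : v₀ ∈ W := ⟨1, A.one_mem, rfl⟩
        rwa [h, Submodule.mem_bot] at h1
    obtain ⟨a, ha, hav⟩ : f v₀ ∈ W := hW ▸ Submodule.mem_top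
    have hk : LinearMap.ker (f - a) = ⊤ := by
      refine (hker _ (hf.sub_right (hcommA a ha))).resolve_left fun h => hv₀ ?_
      rw [← Submodule.mem_bot (R := ZMod p), ← h, LinearMap.mem_ker, LinearMap.sub_apply, sub_eq_zero]
      exact hav.symm
    rw [LinearMap.ker_eq_top, sub_eq_zero] at hk
    exact hk ▸ ha
  letI : CommRing A :=
    { (inferInstance : Ring A) with
      mul_comm := fun a b => by
        obtain ⟨a, ha⟩ := a
        obtain ⟨b, hb⟩ := b
        refine Subtype.ext ?_
        exact (Algebra.commute_of_mem_adjoin_singleton_of_commute hb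
          (hcommA a ha).symm).eq }
  haveI : Nontrivial A := ⟨⟨0, 1, fun h => by
    have := LinearMap.congr_fun (congrArg Subtype.val h) v₀
    exact hv₀ this.symm⟩⟩
  haveI : NoZeroDivisors A := ⟨fun {a b} hab => by
    rcases hker a (hcommA a a.2) with h | h
    · right
      refine Subtype.ext (LinearMap.ext fun v => ?_)
      have h1 : (a : Module.End (ZMod p) V) ((b : Module.End (ZMod p) V) v) = 0 :=
        LinearMap.congr_fun (congrArg Subtype.val hab) v
      rw [← LinearMap.mem_ker, h, Submodule.mem_bot] at h1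
      exact h1
    · exact Or.inl (Subtype.ext (LinearMap.ker_eq_top.1 h))⟩
  haveI : IsDomain A := NoZeroDivisors.to_isDomain A
  let f : Subgroup.centralizer ({c} : Set E) →* A :=
    { toFun := fun g => ⟨ρ g, hmem _ ((show Commute c (g : E) from
        (Subgroup.mem_centralizer_singleton_iff.1 g.2).symm).map ρ)⟩
      map_one' := Subtype.ext (map_one ρ)
      map_mul' := fun g h => Subtype.ext (map_mul ρ (g : E) h) }
  exact isCyclic_of_injective_ringHom (R := A) f fun g h e =>
    Subtype.ext (hinj (congrArg Subtype.val e))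

/-- An element of prime order `w`, `w` a primitive divisor of `p ^ r - 1`, is irreducible. -/
theorem irred_of_primitive (hinj : Function.Injective ρ) {c : E} {w : ℕ} [Fact w.Prime]
    (hc : orderOf c = w) (hwp : w ≠ p)
    (hprim : ∀ i, 1 ≤ i → i < finrank (ZMod p) V → ¬ w ∣ p ^ i - 1) : Irred ρ c := by
  classical
  set r := finrank (ZMod p) V
  have hfix : ∀ W : Submodule (ZMod p) V, (∀ v ∈ W, ρ c v ∈ W) →
      p ^ finrank (ZMod p) W ≡
        p ^ finrank (ZMod p) (W ⊓ LinearMap.ker (ρ c - 1) : Submodule (ZMod p) V) [MOD w] := by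
    intro W hW
    have hpow : ∀ n : ℕ, ∀ v ∈ W, ρ (c ^ n) v ∈ W := by
      intro n
      induction n with
      | zero => intro v hv; simpa using hv
      | succ n ih => intro v hv; rw [pow_succ, map_mul, Module.End.mul_apply]; exact ih _ (hW v hv)
    have hz : ∀ g : Subgroup.zpowers c, ∀ v ∈ W, ρ (g : E) v ∈ W := fun g v hv => by
      obtain ⟨n, hn⟩ := (mem_powers_iff_mem_zpowers).2 g.2
      rw [← hn]
      exact hpow n v hv
    letI : MulAction (Subgroup.zpowers c) W :=
      { smul := fun g v => ⟨ρ (g : E) v, hz g v v.2⟩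
        one_smul := fun v => Subtype.ext (by
          show ρ ((1 : Subgroup.zpowers c) : E) v = v
          rw [Subgroup.coe_one, map_one, Module.End.one_apply])
        mul_smul := fun g h v => Subtype.ext (by
          show ρ ((g * h : Subgroup.zpowers c) : E) v = ρ (g : E) (ρ (h : E) v)
          rw [Subgroup.coe_mul, map_mul, Module.End.mul_apply]) }
    haveI : Finite W := inferInstance
    have hP : IsPGroup w (Subgroup.zpowers c) :=
      IsPGroup.of_card (n := 1) (by rw [Nat.card_zpowers, hc, pow_one])
    have h := hP.card_modEq_card_fixedPoints W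
    have e : MulAction.fixedPoints (Subgroup.zpowers c) W ≃
        (W ⊓ LinearMap.ker (ρ c - 1) : Submodule (ZMod p) V) :=
      { toFun := fun v => ⟨(v : W), (v : W).2, by
          have := congrArg Subtype.val (v.2 ⟨c, Subgroup.mem_zpowers c⟩)
          rw [SetLike.mem_coe, LinearMap.mem_ker, LinearMap.sub_apply, sub_eq_zero,
            Module.End.one_apply]
          exact this⟩
        invFun := fun v => ⟨⟨v, v.2.1⟩, fun g => Subtype.ext (by
          show ρ (g : E) (v : V) = v
          obtain ⟨n, hn⟩ := (mem_powers_iff_mem_zpowers).2 g.2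
          rw [← hn]
          have hv : ρ c (v : V) = v := by
            have := v.2.2
            rwa [SetLike.mem_coe, LinearMap.mem_ker, LinearMap.sub_apply, sub_eq_zero] at this
          show ρ (c ^ n) (v : V) = v
          induction n generalizing g with
          | zero => simp
          | succ n ih =>
            rw [pow_succ, map_mul, Module.End.mul_apply, hv]
            exact ih ⟨c ^ n, Subgroup.npow_mem_zpowers c n⟩ rfl)⟩
        left_inv := fun v => rfl
        right_inv := fun v => rfl }
    rw [Nat.card_congr e, Module.natCard_eq_pow_finrank (K := ZMod p), Nat.card_zmod,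
      Module.natCard_eq_pow_finrank (K := ZMod p), Nat.card_zmod] at h
    exact h
  have hp : p.Prime := Fact.out
  have hw : w.Prime := Fact.out
  have hpw : Nat.Coprime w p := (Nat.coprime_primes hw hp).2 hwp
  have hexp : ∀ a b : ℕ, b ≤ a → a ≤ r → p ^ a ≡ p ^ b [MOD w] → a = b ∨ (a = r ∧ b = 0) := by
    intro a b hba har h
    rw [show a = b + (a - b) by omega, pow_add] at h
    have h1 : p ^ (a - b) ≡ 1 [MOD w] :=
      Nat.ModEq.cancel_left_of_coprime (hpw.pow_right b) (by rwa [mul_one])
    by_contra hne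
    exact hprim (a - b) (by omega) (by omega) ((Nat.modEq_iff_dvd' (Nat.one_le_pow _ _ hp.pos)).1 h1.symm)
  have hF : LinearMap.ker (ρ c - 1) = ⊥ := by
    have h := hfix ⊤ fun _ _ => Submodule.mem_top
    rw [top_inf_eq, finrank_top] at h
    rcases hexp r _ (Submodule.finrank_le _) le_rfl h with h1 | ⟨-, h1⟩
    · exfalso
      have htop := Submodule.eq_top_of_finrank_eq h1.symm
      rw [LinearMap.ker_eq_top, sub_eq_zero] at htop
      have : c = 1 := hinj (htop.trans (map_one ρ).symm)
      rw [this, orderOf_one] at hc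
      exact hw.ne_one hc.symm
    · exact Submodule.finrank_eq_zero.1 h1
  intro W hW
  have h := hfix W hW
  rw [hF, inf_bot_eq, finrank_bot] at h
  rcases hexp _ 0 (Nat.zero_le _) (Submodule.finrank_le _) h with h1 | ⟨h1, -⟩
  · exact Or.inl (Submodule.finrank_eq_zero.1 h1)
  · exact Or.inr (Submodule.eq_top_of_finrank_eq h1)

/-- An element conjugate to all its nontrivial powers has order at most `dim V + 1`. -/
theorem sub_one_le_finrank [Nontrivial V] (hinj : Function.Injective ρ) {c : E} {w : ℕ}
    [Fact w.Prime] (hc : orderOf c = w) (hirr : Irred ρ c)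
    (hconj : ∀ j, 1 ≤ j → j < w → IsConj c (c ^ j)) : w - 1 ≤ finrank (ZMod p) V := by
  classical
  obtain ⟨v₀, hv₀⟩ := exists_ne (0 : V)
  set f := ρ c with hf
  set μ := minpoly (ZMod p) f
  have hint : IsIntegral (ZMod p) f := LinearMap.isIntegral f
  have haev : ∀ j, 1 ≤ j → j < w → Polynomial.aeval (f ^ j) μ = 0 := by
    intro j h1 h2
    obtain ⟨g, hg⟩ := isConj_iff.1 (hconj j h1 h2)
    let φ : Module.End (ZMod p) V →ₐ[ZMod p] Module.End (ZMod p) V :=
      { toFun := fun a => ρ g * a * ρ g⁻¹
        map_one' := by rw [mul_one, ← map_mul, mul_inv_cancel, map_one]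
        map_mul' := fun a b => by
          rw [show ρ g * a * ρ g⁻¹ * (ρ g * b * ρ g⁻¹) =
            ρ g * a * (ρ g⁻¹ * ρ g) * b * ρ g⁻¹ by simp only [mul_assoc],
            ← map_mul, inv_mul_cancel, map_one, mul_one]
          simp only [mul_assoc]
        map_zero' := by simp
        map_add' := fun a b => by simp [mul_add, add_mul]
        commutes' := fun a => by
          show ρ g * algebraMap (ZMod p) _ a * ρ g⁻¹ = _
          rw [← Algebra.commutes, mul_assoc, ← map_mul, mul_inv_cancel, map_one, mul_one] }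
    have e : φ f = f ^ j := by
      show ρ g * ρ c * ρ g⁻¹ = _
      rw [← map_mul, ← map_mul, hg, map_pow]
    rw [← e, Polynomial.aeval_algHom_apply, minpoly.aeval, map_zero]
  set A := Algebra.adjoin (ZMod p) ({f} : Set (Module.End (ZMod p) V)) with hA
  have hfA : f ∈ A := Algebra.subset_adjoin rfl
  letI : CommRing A :=
    { (inferInstance : Ring A) with
      mul_comm := fun a b => by
        refine Subtype.ext ?_
        exact (Algebra.commute_of_mem_adjoin_singleton_of_commute b.2
          (Algebra.commute_of_mem_adjoin_self a.2).symm).eq }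
  haveI : Nontrivial A := ⟨⟨0, 1, fun h => by
    have := LinearMap.congr_fun (congrArg Subtype.val h) v₀
    exact hv₀ this.symm⟩⟩
  haveI : NoZeroDivisors A := ⟨fun {a b} hab => by
    have hk : LinearMap.ker (a : Module.End (ZMod p) V) = ⊥ ∨
        LinearMap.ker (a : Module.End (ZMod p) V) = ⊤ := hirr _ fun v hv => by
      rw [LinearMap.mem_ker] at hv ⊢
      rw [← hf, ← Module.End.mul_apply, ← (Algebra.commute_of_mem_adjoin_self a.2).eq,
        Module.End.mul_apply, hv, map_zero]
    rcases hk with h | h
    · right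
      refine Subtype.ext (LinearMap.ext fun v => ?_)
      have h1 : (a : Module.End (ZMod p) V) ((b : Module.End (ZMod p) V) v) = 0 :=
        LinearMap.congr_fun (congrArg Subtype.val hab) v
      rw [← LinearMap.mem_ker, h, Submodule.mem_bot] at h1
      exact h1
    · exact Or.inl (Subtype.ext (LinearMap.ker_eq_top.1 h))⟩
  haveI : IsDomain A := NoZeroDivisors.to_isDomain A
  let x : A := ⟨f, hfA⟩
  have hord : orderOf f = w := by rw [hf, orderOf_injective ρ hinj, hc]
  set S : Finset A := (Finset.Ico 1 w).image fun j => x ^ j with hS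
  have hScard : S.card = w - 1 := by
    rw [hS, Finset.card_image_of_injOn, Nat.card_Ico]
    intro a ha b hb h
    have h' : f ^ a = f ^ b := congrArg Subtype.val h
    exact pow_injOn_Iio_orderOf (by simpa [hord] using (Finset.mem_Ico.1 ha).2)
      (by simpa [hord] using (Finset.mem_Ico.1 hb).2) h'
  have hμA : μ.map (algebraMap (ZMod p) A) ≠ 0 :=
    ((minpoly.monic hint).map _).ne_zero
  have hroots : S.val ⊆ (μ.map (algebraMap (ZMod p) A)).roots := by
    intro y hy
    obtain ⟨j, hj, rfl⟩ := Finset.mem_image.1 (show y ∈ S from hy)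
    rw [Polynomial.mem_roots hμA, Polynomial.IsRoot, Polynomial.eval_map, ← Polynomial.aeval_def]
    refine Subtype.ext ?_
    have := Polynomial.aeval_algHom_apply A.val (x ^ j) μ
    rw [map_pow] at this
    exact this.symm.trans (haev j (Finset.mem_Ico.1 hj).1 (Finset.mem_Ico.1 hj).2)
  have hle : μ.natDegree ≤ finrank (ZMod p) V := by
    rw [← LinearMap.charpoly_natDegree f]
    exact Polynomial.natDegree_le_of_dvd (LinearMap.minpoly_dvd_charpoly f)
      f.charpoly_monic.ne_zero
  have h := Polynomial.card_le_degree_of_subset_roots hroots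
  rw [hScard] at h
  exact h.trans (Polynomial.natDegree_map_le.trans hle)

/-- The order of a faithful linear group divides that of `GL_r(p)`. -/
theorem card_dvd_gl (hinj : Function.Injective ρ) {r : ℕ} (hr : finrank (ZMod p) V = r) :
    Nat.card E ∣ ∏ i : Fin r, (p ^ r - p ^ (i : ℕ)) := by
  let b := Module.finBasisOfFinrankEq (ZMod p) V hr
  let f : E →* GL (Fin r) (ZMod p) :=
    MonoidHom.toHomUnits ((LinearMap.toMatrixAlgEquiv b).toMulEquiv.toMonoidHom.comp ρ)
  have hf : Function.Injective f := fun g h e =>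
    hinj ((LinearMap.toMatrixAlgEquiv b).injective (congrArg Units.val e))
  have h := Subgroup.card_dvd_of_injective f hf
  rw [Matrix.card_GL_field, ZMod.card] at h
  exact h

/-- A common eigenvector of commuting involutions, `p` odd. -/
theorem exists_eigenvector [Nontrivial V] (hp : p ≠ 2) (Z : Subgroup E)
    (hcomm : ∀ a ∈ Z, ∀ b ∈ Z, Commute a b) (hsq : ∀ z ∈ Z, z ^ 2 = 1) :
    ∃ v : V, v ≠ 0 ∧ ∀ z ∈ Z, ρ z v = v ∨ ρ z v = -v := by
  classical
  have hex : ∃ n : ℕ, ∃ W : Submodule (ZMod p) V, W ≠ ⊥ ∧ (∀ z ∈ Z, ∀ v ∈ W, ρ z v ∈ W) ∧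
      finrank (ZMod p) W = n :=
    ⟨_, ⊤, top_ne_bot, fun _ _ _ _ => Submodule.mem_top, rfl⟩
  obtain ⟨W, hW0, hWinv, hWn⟩ := Nat.find_spec hex
  obtain ⟨v, hvW, hv0⟩ := Submodule.exists_mem_ne_zero_of_ne_bot hW0
  refine ⟨v, hv0, fun z hz => ?_⟩
  set W' := W ⊓ LinearMap.ker (ρ z - 1) with hW'
  have hW'inv : ∀ y ∈ Z, ∀ x ∈ W', ρ y x ∈ W' := by
    intro y hy x hx
    refine ⟨hWinv y hy x hx.1, ?_⟩
    have hx2 := hx.2
    rw [SetLike.mem_coe, LinearMap.mem_ker, LinearMap.sub_apply, sub_eq_zero,
      Module.End.one_apply] at hx2 ⊢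
    rw [apply_eq_of_commute ρ (hcomm z hz y hy), hx2]
  by_cases h0 : W' = ⊥
  · right
    have hz2 : ρ z (ρ z v) = v := by
      rw [← Module.End.mul_apply, ← map_mul, ← pow_two, hsq z hz, map_one, Module.End.one_apply]
    have hmem : ρ z v + v ∈ W' := by
      refine ⟨W.add_mem (hWinv z hz v hvW) hvW, ?_⟩
      rw [SetLike.mem_coe, LinearMap.mem_ker, LinearMap.sub_apply, sub_eq_zero,
        Module.End.one_apply, map_add, hz2, add_comm]
    rw [h0, Submodule.mem_bot] at hmem
    exact eq_neg_of_add_eq_zero_left hmem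
  · left
    have hge := Nat.find_min' hex ⟨W', h0, hW'inv, rfl⟩
    have heq : W' = W := Submodule.eq_of_le_of_finrank_le inf_le_left (hWn.le.trans hge)
    have hv' : v ∈ W' := heq.symm ▸ hvW
    have := hv'.2
    rw [SetLike.mem_coe, LinearMap.mem_ker, LinearMap.sub_apply, sub_eq_zero] at this
    exact this

theorem neg_one_ne_one (hp : p ≠ 2) : (-1 : ZMod p) ≠ 1 := fun h => hp <| by
  have h2 : ((2 : ℕ) : ZMod p) = 0 := by
    push_cast
    rw [show (2 : ZMod p) = 1 + 1 by norm_num]
    nth_rw 1 [← h]
    exact neg_add_cancel 1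
  exact (Nat.prime_dvd_prime_iff_eq Fact.out Nat.prime_two).1 ((ZMod.natCast_eq_zero_iff _ _).1 h2)

/-- A self-centralizing element of order `w`, `w` a prime at least `dim V + 1`, does not normalize
a nontrivial elementary abelian `2`-subgroup with trivial fixed points. -/
theorem not_normalizes_elementary [Nontrivial V] (hinj : Function.Injective ρ) (hp : p ≠ 2)
    (hcop : ¬ p ∣ Nat.card E) {c : E} {w : ℕ} [Fact w.Prime] (hc : orderOf c = w)
    (hirr : Irred ρ c) (hw : finrank (ZMod p) V < w) (Z : Subgroup E)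
    (hcomm : ∀ a ∈ Z, ∀ b ∈ Z, Commute a b) (hsq : ∀ z ∈ Z, z ^ 2 = 1)
    (hnorm : ∀ z ∈ Z, c * z * c⁻¹ ∈ Z) (hfix : ∀ z ∈ Z, Commute c z → z = 1) : Z = ⊥ := by
  classical
  by_contra hZ
  obtain ⟨v, hv0, hv⟩ := exists_eigenvector ρ hp Z hcomm hsq
  have hone := neg_one_ne_one (p := p) hp
  let χ : Z → ZMod p := fun z => if ρ (z : E) v = v then 1 else -1
  have hχ : ∀ z : Z, ρ (z : E) v = χ z • v := fun z => by
    simp only [χ]
    split_ifs with h
    · rw [one_smul, h]
    · rw [neg_one_smul]; exact (hv z z.2).resolve_left h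
  have hχmul : ∀ a b : Z, χ (a * b) = χ a * χ b := fun a b => by
    refine smul_left_injective (ZMod p) hv0 ?_
    show χ (a * b) • v = (χ a * χ b) • v
    rw [← hχ, Subgroup.coe_mul, map_mul, Module.End.mul_apply, hχ b, map_smul, hχ a, smul_smul,
      mul_comm]
  have hnormpow : ∀ (i : ℕ), ∀ z ∈ Z, c ^ i * z * (c ^ i)⁻¹ ∈ Z := by
    intro i
    induction i with
    | zero => simp
    | succ i ih =>
      intro z hz
      have e : c ^ (i + 1) * z * (c ^ (i + 1))⁻¹ = c * (c ^ i * z * (c ^ i)⁻¹) * c⁻¹ := by
        rw [pow_succ']; group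
      rw [e]
      exact hnorm _ (ih z hz)
  let tw : ℕ → Z → Z := fun i z => ⟨c ^ i * (z : E) * (c ^ i)⁻¹, hnormpow i z z.2⟩
  -- the weight of `ρ (c ^ i)⁻¹ v`
  let vi : ℕ → V := fun i => ρ (c ^ i)⁻¹ v
  have hvi : ∀ (i : ℕ) (z : Z), ρ (z : E) (vi i) = χ (tw i z) • vi i := fun i z => by
    simp only [vi]
    rw [← map_smul, ← hχ, ← Module.End.mul_apply, ← Module.End.mul_apply, ← map_mul, ← map_mul]
    congr 2
    simp only [tw]
    group
  have hvi0 : ∀ i, vi i ≠ 0 := fun i h => hv0 (by
    have := congrArg (ρ (c ^ i)) h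
    rwa [map_zero, ← Module.End.mul_apply, ← map_mul, mul_inv_cancel, map_one,
      Module.End.one_apply] at this)
  -- distinct weights
  have hdist : ∀ i j : Fin w, i ≠ j → ∃ z : Z, χ (tw i z) ≠ χ (tw j z) := by
    intro i j hij
    by_contra! hall
    wlog hlt : i < j generalizing i j
    · exact this j i (Ne.symm hij) (fun z => (hall z).symm) (lt_of_le_of_ne (not_lt.1 hlt) (Ne.symm hij))
    obtain ⟨d, hd⟩ : ∃ d, (j : ℕ) = i + d := ⟨j - i, by omega⟩
    have hd0 : 0 < d ∧ d < w := by have := j.2; omega
    have hinvd : ∀ z : Z, χ (tw d z) = χ z := by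
      intro z
      have hmem : ((c ^ (i : ℕ))⁻¹ : E) * z * c ^ (i : ℕ) ∈ Z := by
        obtain ⟨k, hk⟩ : ∃ k : ℕ, (c ^ (i : ℕ))⁻¹ = c ^ k := by
          obtain ⟨k, hk⟩ := (mem_powers_iff_mem_zpowers).2
            ((Subgroup.zpowers c).inv_mem (Subgroup.npow_mem_zpowers c i))
          exact ⟨k, hk.symm⟩
        have := hnormpow k z z.2
        rwa [← hk, inv_inv] at this
      have h := hall ⟨_, hmem⟩
      have e1 : tw i ⟨_, hmem⟩ = z := Subtype.ext (by simp only [tw]; group)
      have e2 : tw (j : ℕ) ⟨_, hmem⟩ = tw d z := Subtype.ext (by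
        simp only [tw, hd, pow_add]
        rw [← pow_add, add_comm, pow_add]
        group)
      rw [e1, e2] at h
      exact h.symm
    -- the weight space is invariant under `c`
    let W : Submodule (ZMod p) V :=
      ⨅ z : Z, LinearMap.ker (ρ (z : E) - χ z • (1 : Module.End (ZMod p) V))
    have hWmem : ∀ x, x ∈ W ↔ ∀ z : Z, ρ (z : E) x = χ z • x := fun x => by
      simp only [W, Submodule.mem_iInf, LinearMap.mem_ker, LinearMap.sub_apply, LinearMap.smul_apply,
        Module.End.one_apply, sub_eq_zero]
    have hWd : ∀ x ∈ W, ρ (c ^ d)⁻¹ x ∈ W := fun x hx => (hWmem _).2 fun z => by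
      have h1 := (hWmem x).1 hx (tw d z)
      rw [hinvd] at h1
      rw [← map_smul, ← h1, ← Module.End.mul_apply, ← Module.End.mul_apply, ← map_mul, ← map_mul]
      congr 2
      simp only [tw]
      group
    have hWinv : ∀ x ∈ W, ρ c x ∈ W := by
      have hpow : ∀ n : ℕ, ∀ x ∈ W, ρ (((c ^ d)⁻¹) ^ n) x ∈ W := by
        intro n
        induction n with
        | zero => intro x hx; simpa using hx
        | succ n ih =>
          intro x hx
          rw [pow_succ, map_mul, Module.End.mul_apply]
          exact ih _ (hWd x hx)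
      have hgen : c ∈ Subgroup.zpowers ((c ^ d)⁻¹) := by
        rw [Subgroup.zpowers_inv]
        have hwd : Nat.Coprime d (orderOf c) := by
          rw [hc]
          exact (Nat.coprime_of_lt_prime hd0.1.ne' hd0.2 Fact.out).symm
        obtain ⟨m, hm⟩ := exists_pow_eq_self_of_coprime hwd
        have := Subgroup.npow_mem_zpowers (c ^ d) m
        rwa [hm] at this
      obtain ⟨n, hn⟩ := (mem_powers_iff_mem_zpowers).2 hgen
      intro x hx
      have := hpow n x hx
      rwa [show ((c ^ d)⁻¹) ^ n = c from hn] at this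
    have hWtop : W = ⊤ := (hirr W hWinv).resolve_left fun h => hv0 (by
      have : v ∈ W := (hWmem v).2 hχ
      rwa [h, Submodule.mem_bot] at this)
    refine hZ ((Subgroup.eq_bot_iff_forall _).2 fun z hz => hfix z hz (hinj ?_))
    refine LinearMap.ext fun x => ?_
    have h1 : ∀ y, ρ z y = χ ⟨z, hz⟩ • y := fun y => (hWmem y).1 (hWtop ▸ Submodule.mem_top) ⟨z, hz⟩
    rw [map_mul, map_mul, Module.End.mul_apply, Module.End.mul_apply, h1, h1, map_smul]
  -- orthogonality of weights
  haveI := Fintype.ofFinite Z
  have hZp : (Fintype.card Z : ZMod p) ≠ 0 := fun h => by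
    rw [ZMod.natCast_eq_zero_iff, ← Nat.card_eq_fintype_card] at h
    exact hcop (h.trans (Subgroup.card_subgroup_dvd_card Z))
  have hχsq : ∀ z, χ z * χ z = 1 := fun z => by simp only [χ]; split_ifs <;> ring
  have htwmul : ∀ (i : ℕ) (a b : Z), tw i (a * b) = tw i a * tw i b := fun i a b =>
    Subtype.ext (by simp only [tw, Subgroup.coe_mul]; group)
  have horth : ∀ i j : Fin w, ∑ z : Z, χ (tw i z) * χ (tw j z) =
      if i = j then (Fintype.card Z : ZMod p) else 0 := by
    intro i j
    split_ifs with h
    · subst h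
      simp [hχsq]
    · obtain ⟨z₀, hz₀⟩ := hdist i j h
      have hval : χ (tw i z₀) * χ (tw j z₀) = -1 := by
        simp only [χ] at hz₀ ⊢
        split_ifs at hz₀ ⊢ <;> first | exact absurd rfl hz₀ | ring
      set S := ∑ z : Z, χ (tw i z) * χ (tw j z) with hS
      have hS2 : S = -S := by
        conv_lhs => rw [hS, ← Equiv.sum_comp (Equiv.mulLeft z₀)]
        rw [hS, ← Finset.sum_neg_distrib]
        refine Finset.sum_congr rfl fun z _ => ?_
        simp only [Equiv.coe_mulLeft, htwmul, hχmul]
        linear_combination (χ (tw i z) * χ (tw j z)) * hval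
      have h2 : (1 - (-1 : ZMod p)) * S = 0 := by linear_combination hS2
      exact (mul_eq_zero.1 h2).resolve_left (sub_ne_zero.2 hone.symm)
  have hli : LinearIndependent (ZMod p) (fun i : Fin w => vi i) := by
    rw [Fintype.linearIndependent_iff]
    intro a ha k
    have h := congrArg (fun x => ∑ z : Z, χ (tw k z) • ρ (z : E) x) ha
    simp only [map_zero, smul_zero, Finset.sum_const_zero, map_sum, map_smul, Finset.smul_sum,
      hvi, smul_smul] at h
    rw [Finset.sum_comm] at h
    simp only [← Finset.sum_smul] at h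
    rw [Finset.sum_eq_single k (fun i _ hik => by
      rw [show ∑ z : Z, χ (tw k z) * (a i * χ (tw i z)) = a i * ∑ z : Z, χ (tw k z) * χ (tw i z) by
        rw [Finset.mul_sum]; exact Finset.sum_congr rfl fun z _ => by ring,
        horth, if_neg (Ne.symm hik), mul_zero, zero_smul])
      (fun h => absurd (Finset.mem_univ _) h),
      show ∑ z : Z, χ (tw k z) * (a k * χ (tw k z)) = a k * ∑ z : Z, χ (tw k z) * χ (tw k z) by
        rw [Finset.mul_sum]; exact Finset.sum_congr rfl fun z _ => by ring,
      horth, if_pos rfl] at h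
    exact (mul_eq_zero.1 ((smul_eq_zero.1 h).resolve_right (hvi0 k))).resolve_right hZp
  have := hli.fintype_card_le_finrank
  rw [Fintype.card_fin] at this
  omega

/-- A `2`-group of exponent two acting faithfully on a plane has order at most four. -/
theorem card_le_four [Nontrivial V] (hinj : Function.Injective ρ) (hp : p ≠ 2)
    (hV : finrank (ZMod p) V = 2) (P : Subgroup E) (hsq : ∀ z ∈ P, z ^ 2 = 1) :
    Nat.card P ≤ 4 := by
  classical
  have hcomm : ∀ a ∈ P, ∀ b ∈ P, Commute a b := fun a ha b hb => by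
    have i1 := fun x (hx : x ∈ P) => show x⁻¹ = x from
      inv_eq_of_mul_eq_one_right (by rw [← pow_two, hsq x hx])
    show a * b = b * a
    rw [← i1 (a * b) (P.mul_mem ha hb), mul_inv_rev, i1 a ha, i1 b hb]
  obtain ⟨v, hv0, hv⟩ := exists_eigenvector ρ hp P hcomm hsq
  have h2 : ∀ z ∈ P, ∀ x : V, ρ z (ρ z x) = x := fun z hz x => by
    rw [← Module.End.mul_apply, ← map_mul, ← pow_two, hsq z hz, map_one, Module.End.one_apply]
  have hone := neg_one_ne_one (p := p) hp
  have hxneg : ∀ x : V, x = -x → x = 0 := fun x hx => by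
    have : (1 - (-1 : ZMod p)) • x = 0 := by
      rw [sub_smul, one_smul, neg_one_smul]
      exact sub_eq_zero.2 hx
    exact (smul_eq_zero.1 this).resolve_left (sub_ne_zero.2 hone.symm)
  let sgn : P → Bool := fun z => decide (ρ (z : E) v = v)
  by_cases hbad : ∃ t ∈ P, ∃ u, ρ t u = -u ∧ u ≠ 0 ∧ ρ t v = v ∨ ρ t u = u ∧ u ≠ 0 ∧ ρ t v = -v
  · -- a second eigenvector
    obtain ⟨t, ht, u, hu⟩ := hbad
    have hu0 : u ≠ 0 := hu.elim (fun h => h.2.1) (fun h => h.2.1)
    have hLI : LinearIndependent (ZMod p) ![v, u] := by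
      refine LinearIndependent.pair_iff.2 fun a b hab => ?_
      have h := congrArg (ρ t) hab
      rcases hu with ⟨e1, -, e2⟩ | ⟨e1, -, e2⟩ <;>
        rw [map_add, map_smul, map_smul, map_zero, e1, e2] at h
      · have h' : (a + a) • v = 0 := by linear_combination (norm := module) hab + h
        have ha := (smul_eq_zero.1 h').resolve_right hv0
        have ha0 : a = 0 := by
          have : (1 - (-1 : ZMod p)) * a = 0 := by linear_combination ha
          exact (mul_eq_zero.1 this).resolve_left (sub_ne_zero.2 hone.symm)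
        subst ha0
        simp only [zero_smul, zero_add] at hab
        exact ⟨rfl, (smul_eq_zero.1 hab).resolve_right hu0⟩
      · have h' : (b + b) • u = 0 := by linear_combination (norm := module) hab + h
        have hb := (smul_eq_zero.1 h').resolve_right hu0
        have hb0 : b = 0 := by
          have : (1 - (-1 : ZMod p)) * b = 0 := by linear_combination hb
          exact (mul_eq_zero.1 this).resolve_left (sub_ne_zero.2 hone.symm)
        subst hb0
        simp only [zero_smul, add_zero] at hab
        exact ⟨(smul_eq_zero.1 hab).resolve_right hv0, rfl⟩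
    let B := basisOfLinearIndependentOfCardEqFinrank hLI (by simp [hV])
    have hpm : ∀ z ∈ P, ρ z u = u ∨ ρ z u = -u := by
      intro z hz
      obtain ⟨a, b, hab⟩ : ∃ a b : ZMod p, ρ z u = a • v + b • u := by
        refine ⟨B.repr (ρ z u) 0, B.repr (ρ z u) 1, ?_⟩
        conv_lhs => rw [← B.sum_repr (ρ z u)]
        rw [Fin.sum_univ_two]
        simp [B]
      have hc := apply_eq_of_commute ρ (hcomm t ht z hz) u
      have ha0 : a = 0 := by
        rcases hu with ⟨e1, -, e2⟩ | ⟨e1, -, e2⟩ <;>
          rw [e1] at hc <;> simp only [map_neg, hab, map_add, map_smul, e1, e2] at hc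
        · have h' : (a + a) • v = 0 := by linear_combination (norm := module) hc
          have := (smul_eq_zero.1 h').resolve_right hv0
          have : (1 - (-1 : ZMod p)) * a = 0 := by linear_combination this
          exact (mul_eq_zero.1 this).resolve_left (sub_ne_zero.2 hone.symm)
        · have h' : (a + a) • v = 0 := by linear_combination (norm := module) -hc
          have := (smul_eq_zero.1 h').resolve_right hv0
          have : (1 - (-1 : ZMod p)) * a = 0 := by linear_combination this
          exact (mul_eq_zero.1 this).resolve_left (sub_ne_zero.2 hone.symm)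
      rw [ha0, zero_smul, zero_add] at hab
      have hb2 : b * b = 1 := by
        have := h2 z hz u
        rw [hab, map_smul, hab, smul_smul] at this
        refine smul_left_injective (ZMod p) hu0 (this.trans (one_smul _ _).symm)
      rcases mul_self_eq_one_iff.1 hb2 with rfl | rfl
      · exact Or.inl (by rw [hab, one_smul])
      · exact Or.inr (by rw [hab, neg_one_smul])
    have hinjS : Function.Injective fun z : P =>
        (sgn z, decide (ρ (z : E) u = u)) := fun z z' h => by
      simp only [Prod.mk.injEq, sgn, decide_eq_decide] at h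
      refine Subtype.ext (hinj (B.ext fun i => ?_))
      fin_cases i
      · simp only [B, Fin.zero_eta, coe_basisOfLinearIndependentOfCardEqFinrank, Matrix.cons_val_zero]
        rcases hv z z.2 with e | e
        · rw [e, h.1.1 e]
        · by_cases e' : ρ (z' : E) v = v
          · rw [e', h.1.2 e']
          · rw [e, (hv z' z'.2).resolve_left e']
      · simp only [B, Fin.mk_one, coe_basisOfLinearIndependentOfCardEqFinrank, Matrix.cons_val_one,
          Matrix.cons_val_zero]
        rcases hpm z z.2 with e | e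
        · rw [e, h.2.1 e]
        · by_cases e' : ρ (z' : E) u = u
          · rw [e', h.2.2 e']
          · rw [e, (hpm z' z'.2).resolve_left e']
    refine (Nat.card_le_card_of_injective _ hinjS).trans ?_
    simp [Nat.card_eq_fintype_card]
  · -- every element acts as a scalar
    have hsc : ∀ z ∈ P, (ρ z v = v → ρ z = 1) ∧ (ρ z v = -v → ρ z = -1) := by
      intro z hz
      push Not at hbad
      constructor <;> intro e <;> refine LinearMap.ext fun x => ?_
      · have hy : ρ z (ρ z x - x) = -(ρ z x - x) := by rw [map_sub, h2 z hz, neg_sub]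
        by_contra hne
        exact ((hbad z hz (ρ z x - x)).1 hy (fun h => hne (sub_eq_zero.1 h))) e
      · have hy : ρ z (ρ z x + x) = ρ z x + x := by rw [map_add, h2 z hz, add_comm]
        by_contra hne
        exact ((hbad z hz (ρ z x + x)).2 hy
          (fun h => hne (eq_neg_of_add_eq_zero_left h))) e
    have hinjS : Function.Injective sgn := fun z z' h => by
      simp only [sgn, decide_eq_decide] at h
      refine Subtype.ext (hinj ?_)
      rcases hv z z.2 with e | e
      · rw [(hsc z z.2).1 e, (hsc z' z'.2).1 (h.1 e)]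
      · by_cases e' : ρ (z' : E) v = v
        · rw [(hsc z' z'.2).1 e', (hsc z z.2).1 (h.2 e')]
        · rw [(hsc z z.2).2 e, (hsc z' z'.2).2 ((hv z' z'.2).resolve_left e')]
    refine (Nat.card_le_card_of_injective _ hinjS).trans ?_
    simp [Nat.card_eq_fintype_card]

end Cfsg.Agent.Blocks.ThreeChars
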